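import Cfsg.Agent.Lib.helper7.TO.Defs
import Cfsg.Agent.Lib.Helper28.OTrans

/-!
# Project TO (S5704): basic API for the context `C : Ctx a b F`
-/

set_option autoImplicit false

namespace Cfsg.Agent.Lib.helper7.TO

open Matrix Cfsg.Agent.Lib.helper7.TP
open scoped Kronecker

variable {a b : ℕ} {F : Type*} [Field F]

/-! ## pure tensors -/

theorem ten_zero_left (w : Fin b → F) : ten (0 : Fin a → F) w = 0 := by
  funext p; simp [ten]

theorem ten_zero_right (u : Fin a → F) : ten u (0 : Fin b → F) = 0 := by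
  funext p; simp [ten]

theorem ten_neg_left (u : Fin a → F) (w : Fin b → F) : ten (-u) w = -ten u w := by
  funext p; simp [ten]

theorem ten_neg_right (u : Fin a → F) (w : Fin b → F) : ten u (-w) = -ten u w := by
  funext p; simp [ten]

theorem ten_sub_left (u u' : Fin a → F) (w : Fin b → F) : ten (u - u') w = ten u w - ten u' w := by
  funext p; simp [ten, sub_mul]

theorem ten_sub_right (u : Fin a → F) (w w' : Fin b → F) : ten u (w - w') = ten u w - ten u w' := by
  funext p; simp [ten, mul_sub]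

/-- `u ⊗ w = 0` only if `u = 0` or `w = 0`. -/
theorem ten_eq_zero {u : Fin a → F} {w : Fin b → F} (h : ten u w = 0) : u = 0 ∨ w = 0 := by
  by_contra hcon
  push Not at hcon
  obtain ⟨hu, hw⟩ := hcon
  obtain ⟨i, hi⟩ : ∃ i, u i ≠ 0 := by
    by_contra h'
    push Not at h'
    exact hu (funext h')
  obtain ⟨j, hj⟩ : ∃ j, w j ≠ 0 := by
    by_contra h'
    push Not at h'
    exact hw (funext h')
  have := congrFun h (i, j)
  simp only [ten, Pi.zero_apply] at this
  exact mul_ne_zero hi hj this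

theorem ten_left_inj {w : Fin b → F} (hw : w ≠ 0) {u u' : Fin a → F} (h : ten u w = ten u' w) :
    u = u' := by
  have h0 : ten (u - u') w = 0 := by rw [ten_sub_left, h, sub_self]
  rcases ten_eq_zero h0 with h1 | h1
  · exact sub_eq_zero.mp h1
  · exact absurd h1 hw

theorem ten_right_inj {u : Fin a → F} (hu : u ≠ 0) {w w' : Fin b → F} (h : ten u w = ten u w') :
    w = w' := by
  have h0 : ten u (w - w') = 0 := by rw [ten_sub_right, h, sub_self]
  rcases ten_eq_zero h0 with h1 | h1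
  · exact absurd h1 hu
  · exact sub_eq_zero.mp h1

/-- every vector is the sum of the pure tensors `e_i ⊗ (row i)`. -/
theorem eq_sum_ten (X : Fin a × Fin b → F) :
    X = ∑ i : Fin a, ten (Pi.single i (1 : F)) (fun j => X (i, j)) := by
  funext p
  obtain ⟨i, j⟩ := p
  rw [Finset.sum_apply]
  simp only [ten, Pi.single_apply]
  rw [Finset.sum_eq_single i]
  · simp
  · intro k _ hk
    simp [Ne.symm hk]
  · intro h
    exact absurd (Finset.mem_univ i) h

namespace Ctx

variable (C : Ctx a b F)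

/-! ## the bilinear form `f` -/

theorem f_zero_left (y : Fin a × Fin b → F) : C.f 0 y = 0 := by
  have := C.hf.smul_left 0 0 y
  simpa using this

theorem f_zero_right (x : Fin a × Fin b → F) : C.f x 0 = 0 := by
  have := C.hf.smul_right 0 x 0
  simpa using this

theorem f_neg_left (x y : Fin a × Fin b → F) : C.f (-x) y = -C.f x y := by
  have := C.hf.smul_left (-1) x y
  simpa using this

theorem f_neg_right (x y : Fin a × Fin b → F) : C.f x (-y) = -C.f x y := by
  have := C.hf.smul_right (-1) x y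
  simpa using this

theorem f_sub_left (x x' y : Fin a × Fin b → F) : C.f (x - x') y = C.f x y - C.f x' y := by
  rw [sub_eq_add_neg, C.hf.add_left, f_neg_left, sub_eq_add_neg]

theorem f_sub_right (x y y' : Fin a × Fin b → F) : C.f x (y - y') = C.f x y - C.f x y' := by
  rw [sub_eq_add_neg, C.hf.add_right, f_neg_right, sub_eq_add_neg]

theorem f_sum_left {ι : Type*} (s : Finset ι) (g : ι → (Fin a × Fin b → F))
    (y : Fin a × Fin b → F) : C.f (∑ i ∈ s, g i) y = ∑ i ∈ s, C.f (g i) y := by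
  classical
  induction s using Finset.induction_on with
  | empty => simp [f_zero_left]
  | insert k s hk ih => rw [Finset.sum_insert hk, Finset.sum_insert hk, C.hf.add_left, ih]

theorem f_sum_right {ι : Type*} (s : Finset ι) (g : ι → (Fin a × Fin b → F))
    (x : Fin a × Fin b → F) : C.f x (∑ i ∈ s, g i) = ∑ i ∈ s, C.f x (g i) := by
  classical
  induction s using Finset.induction_on with
  | empty => simp [f_zero_right]
  | insert k s hk ih => rw [Finset.sum_insert hk, Finset.sum_insert hk, C.hf.add_right, ih]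

/-- `f` is symmetric. -/
theorem f_symm (x y : Fin a × Fin b → F) : C.f x y = C.f y x := by
  have h1 := C.q_add x y
  have h2 := C.q_add y x
  rw [add_comm y x] at h2
  linear_combination h2 - h1

theorem q_zero : C.q 0 = 0 := by
  have := C.q_smul 0 0
  simpa using this

theorem q_neg (x : Fin a × Fin b → F) : C.q (-x) = C.q x := by
  have := C.q_smul (-1) x
  simpa using this

theorem f_self (x : Fin a × Fin b → F) : C.f x x = 2 * C.q x := by
  have h1 := C.q_add x x
  have h3 := C.q_smul 2 x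
  rw [two_smul] at h3
  linear_combination h3 - h1

theorem f_self_of_q {x : Fin a × Fin b → F} (h : C.q x = 0) : C.f x x = 0 := by
  rw [f_self, h, mul_zero]

theorem q_sub (x y : Fin a × Fin b → F) : C.q (x - y) = C.q x + C.q y - C.f x y := by
  rw [sub_eq_add_neg, C.q_add, q_neg, f_neg_right]
  ring

theorem f_ten_self (u : Fin a → F) (w : Fin b → F) : C.f (ten u w) (ten u w) = 0 :=
  C.f_self_of_q (C.q_ten u w)

/-- `f (X, u' ⊗ w') = f₂ ((u'* ⊗ 1) X, w')`. -/
theorem f_ten_right_A (X : Fin a × Fin b → F) (u' : Fin a → F) (w' : Fin b → F) :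
    C.f X (ten u' w') = C.f₂ (ctrA (C.fl₁ u') X) w' := by
  rw [eq_sum_ten X, f_sum_left]
  have : ctrA (C.fl₁ u') (∑ i : Fin a, ten (Pi.single i (1 : F)) (fun j => X (i, j))) =
      ∑ i : Fin a, ctrA (C.fl₁ u') (ten (Pi.single i (1 : F)) (fun j => X (i, j))) := by
    have hadd : ∀ (s : Finset (Fin a)) (g : Fin a → (Fin a × Fin b → F)),
        ctrA (C.fl₁ u') (∑ i ∈ s, g i) = ∑ i ∈ s, ctrA (C.fl₁ u') (g i) := by
      intro s g
      classical
      induction s using Finset.induction_on with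
      | empty =>
        funext j
        simp [ctrA]
      | insert k s hk ih => rw [Finset.sum_insert hk, Finset.sum_insert hk, ctrA_add, ih]
    exact hadd _ _
  rw [this, Cfsg.Agent.Lib.Helper28.SympAbs.f_sum_left C.hf₂]
  apply Finset.sum_congr rfl
  intro i _
  rw [C.f_ten, C.ctrA_fl₁_ten, C.hf₂.bilinear.smul_left]

/-- `f (X, u' ⊗ w') = f₁ ((1 ⊗ w'*) X, u')`. -/
theorem f_ten_right_B (X : Fin a × Fin b → F) (u' : Fin a → F) (w' : Fin b → F) :
    C.f X (ten u' w') = C.f₁ (ctr (C.fl₂ w') X) u' := by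
  rw [eq_sum_ten X, f_sum_left]
  have : ctr (C.fl₂ w') (∑ i : Fin a, ten (Pi.single i (1 : F)) (fun j => X (i, j))) =
      ∑ i : Fin a, ctr (C.fl₂ w') (ten (Pi.single i (1 : F)) (fun j => X (i, j))) := by
    have hadd : ∀ (s : Finset (Fin a)) (g : Fin a → (Fin a × Fin b → F)),
        ctr (C.fl₂ w') (∑ i ∈ s, g i) = ∑ i ∈ s, ctr (C.fl₂ w') (g i) := by
      intro s g
      classical
      induction s using Finset.induction_on with
      | empty =>
        funext j
        simp [ctr]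
      | insert k s hk ih => rw [Finset.sum_insert hk, Finset.sum_insert hk, ctr_add, ih]
    exact hadd _ _
  rw [this, Cfsg.Agent.Lib.Helper28.SympAbs.f_sum_left C.hf₁]
  apply Finset.sum_congr rfl
  intro i _
  rw [C.f_ten, C.ctr_fl₂_ten, C.hf₁.bilinear.smul_left]
  ring

/-- `X ⊥ A ⊗ w` iff `(1 ⊗ w*) X = 0`. -/
theorem perp_Bline_iff (X : Fin a × Fin b → F) (w : Fin b → F) :
    (∀ x : Fin a → F, C.f X (ten x w) = 0) ↔ ctr (C.fl₂ w) X = 0 := by
  constructor
  · intro h
    by_contra h0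
    obtain ⟨x, hx⟩ := (C.hf₁.nondegenerate _ h0).2
    exact hx (by rw [← f_ten_right_B]; exact h x)
  · intro h x
    rw [f_ten_right_B, h, Cfsg.Agent.Lib.Helper28.SympAbs.f_zero_left C.hf₁]

/-- `X ⊥ u ⊗ B` iff `(u* ⊗ 1) X = 0`. -/
theorem perp_Aline_iff (X : Fin a × Fin b → F) (u : Fin a → F) :
    (∀ y : Fin b → F, C.f X (ten u y) = 0) ↔ ctrA (C.fl₁ u) X = 0 := by
  constructor
  · intro h
    by_contra h0
    obtain ⟨y, hy⟩ := (C.hf₂.nondegenerate _ h0).2
    exact hy (by rw [← f_ten_right_A]; exact h y)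
  · intro h y
    rw [f_ten_right_A, h, Cfsg.Agent.Lib.Helper28.SympAbs.f_zero_left C.hf₂]

/-! ## adjoints -/

end Ctx

theorem form_gram {n : ℕ} {f : (Fin n → F) → (Fin n → F) → F}
    (hf : Cfsg.Geo.IsSymplecticForm f) (x y : Fin n → F) :
    f x y = x ⬝ᵥ (Cfsg.Geo.gramMatrix f *ᵥ y) := by
  have hx : x = ∑ i, x i • (Pi.single i (1 : F) : Fin n → F) := by
    ext j
    simp [Finset.sum_apply, Pi.single_apply]
  have hy : y = ∑ i, y i • (Pi.single i (1 : F) : Fin n → F) := by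
    ext j
    simp [Finset.sum_apply, Pi.single_apply]
  conv_lhs => rw [hx, hy]
  rw [Cfsg.Agent.Lib.Helper28.SympAbs.f_sum_left hf]
  simp only [dotProduct, Matrix.mulVec, Finset.mul_sum]
  apply Finset.sum_congr rfl
  intro i _
  rw [hf.bilinear.smul_left]
  have : f (Pi.single i 1) (∑ k, y k • (Pi.single k (1 : F) : Fin n → F)) =
      ∑ k, f (Pi.single i 1) (y k • (Pi.single k (1 : F) : Fin n → F)) := by
    have hadd : ∀ (s : Finset (Fin n)) (g : Fin n → (Fin n → F)),
        f (Pi.single i 1) (∑ k ∈ s, g k) = ∑ k ∈ s, f (Pi.single i 1) (g k) := by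
      intro s g
      classical
      induction s using Finset.induction_on with
      | empty => simp [Cfsg.Agent.Lib.Helper28.SympAbs.f_zero_right hf]
      | insert k s hk ih =>
        rw [Finset.sum_insert hk, Finset.sum_insert hk, hf.bilinear.add_right, ih]
    exact hadd _ _
  rw [this, Finset.mul_sum]
  apply Finset.sum_congr rfl
  intro k _
  rw [hf.bilinear.smul_right]
  unfold Cfsg.Geo.gramMatrix
  ring

theorem gram_isUnit {n : ℕ} {f : (Fin n → F) → (Fin n → F) → F}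
    (hf : Cfsg.Geo.IsSymplecticForm f) : IsUnit (Cfsg.Geo.gramMatrix f).det := by
  rw [isUnit_iff_ne_zero]
  intro h0
  obtain ⟨v, hv0, hv⟩ := Matrix.exists_mulVec_eq_zero_iff.2 h0
  obtain ⟨x, hx⟩ := (hf.nondegenerate v hv0).1
  apply hx
  rw [form_gram hf, hv, dotProduct_zero]

/-- `f (ζ x) y = f x (adjm f ζ y)`. -/
theorem adjm_spec {n : ℕ} {f : (Fin n → F) → (Fin n → F) → F}
    (hf : Cfsg.Geo.IsSymplecticForm f) (ζ : Matrix (Fin n) (Fin n) F) (x y : Fin n → F) :
    f (ζ *ᵥ x) y = f x (adjm f ζ *ᵥ y) := by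
  rw [form_gram hf, form_gram hf, adjm, Matrix.mulVec_mulVec, ← Matrix.mul_assoc, ← Matrix.mul_assoc,
    Matrix.mul_nonsing_inv _ (gram_isUnit hf), Matrix.one_mul, ← Matrix.mulVec_mulVec,
    Matrix.dotProduct_mulVec x, Matrix.vecMul_transpose]

/-- the adjoint is unique. -/
theorem adjm_unique {n : ℕ} {f : (Fin n → F) → (Fin n → F) → F}
    (hf : Cfsg.Geo.IsSymplecticForm f) (ζ ζs : Matrix (Fin n) (Fin n) F)
    (h : ∀ x y : Fin n → F, f (ζ *ᵥ x) y = f x (ζs *ᵥ y)) : ζs = adjm f ζ := by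
  rw [Matrix.ext_iff_mulVec]
  intro y
  by_contra hne
  have hne' : ζs *ᵥ y - adjm f ζ *ᵥ y ≠ 0 := sub_ne_zero.mpr hne
  obtain ⟨x, hx⟩ := (hf.nondegenerate _ hne').1
  apply hx
  rw [Cfsg.Agent.Lib.Helper28.SympAbs.f_sub_right hf, ← h, ← adjm_spec hf, sub_self]

theorem adjm_add {n : ℕ} (f : (Fin n → F) → (Fin n → F) → F) (ζ ζ' : Matrix (Fin n) (Fin n) F) :
    adjm f (ζ + ζ') = adjm f ζ + adjm f ζ' := by
  simp [adjm, Matrix.transpose_add, Matrix.mul_add, Matrix.add_mul]

theorem adjm_sub {n : ℕ} (f : (Fin n → F) → (Fin n → F) → F) (ζ ζ' : Matrix (Fin n) (Fin n) F) :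
    adjm f (ζ - ζ') = adjm f ζ - adjm f ζ' := by
  simp [adjm, Matrix.transpose_sub, Matrix.mul_sub, Matrix.sub_mul]

theorem adjm_smul {n : ℕ} (f : (Fin n → F) → (Fin n → F) → F) (c : F)
    (ζ : Matrix (Fin n) (Fin n) F) : adjm f (c • ζ) = c • adjm f ζ := by
  simp [adjm, Matrix.transpose_smul]

theorem adjm_one {n : ℕ} {f : (Fin n → F) → (Fin n → F) → F}
    (hf : Cfsg.Geo.IsSymplecticForm f) : adjm f (1 : Matrix (Fin n) (Fin n) F) = 1 := by
  rw [adjm, Matrix.transpose_one, Matrix.mul_one, Matrix.nonsing_inv_mul _ (gram_isUnit hf)]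

/-- `adjm (ζ ζ') = adjm ζ' * adjm ζ`. -/
theorem adjm_mul {n : ℕ} {f : (Fin n → F) → (Fin n → F) → F}
    (hf : Cfsg.Geo.IsSymplecticForm f) (ζ ζ' : Matrix (Fin n) (Fin n) F) :
    adjm f (ζ * ζ') = adjm f ζ' * adjm f ζ := by
  symm
  apply adjm_unique hf
  intro x y
  rw [← Matrix.mulVec_mulVec, adjm_spec hf, adjm_spec hf, Matrix.mulVec_mulVec]

namespace Ctx

variable (C : Ctx a b F)

theorem f₁_adj (Z : Matrix (Fin a) (Fin a) F) (x y : Fin a → F) :
    C.f₁ (Z *ᵥ x) y = C.f₁ x (C.adj₁ Z *ᵥ y) := adjm_spec C.hf₁ Z x y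

theorem f₂_adj (ζ : Matrix (Fin b) (Fin b) F) (x y : Fin b → F) :
    C.f₂ (ζ *ᵥ x) y = C.f₂ x (C.adj₂ ζ *ᵥ y) := adjm_spec C.hf₂ ζ x y

/-! ## the isometry group -/

theorem G_f {g : Matrix.GeneralLinearGroup (Fin a × Fin b) F} (hg : g ∈ C.G)
    (x y : Fin a × Fin b → F) :
    C.f ((g : Matrix (Fin a × Fin b) (Fin a × Fin b) F) *ᵥ x)
      ((g : Matrix (Fin a × Fin b) (Fin a × Fin b) F) *ᵥ y) = C.f x y := by
  have h := (C.mem_G g).mp hg
  have h1 := C.q_add ((g : Matrix (Fin a × Fin b) (Fin a × Fin b) F) *ᵥ x)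
    ((g : Matrix (Fin a × Fin b) (Fin a × Fin b) F) *ᵥ y)
  rw [← Matrix.mulVec_add, h, h, h, C.q_add] at h1
  linear_combination -h1

theorem inv_mulVec_mulVec (g : Matrix.GeneralLinearGroup (Fin a × Fin b) F)
    (x : Fin a × Fin b → F) :
    ((g⁻¹ : Matrix.GeneralLinearGroup (Fin a × Fin b) F) :
      Matrix (Fin a × Fin b) (Fin a × Fin b) F) *ᵥ
      ((g : Matrix (Fin a × Fin b) (Fin a × Fin b) F) *ᵥ x) = x := by
  rw [Matrix.mulVec_mulVec, ← Units.val_mul, inv_mul_cancel, Units.val_one, Matrix.one_mulVec]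

theorem mulVec_inv_mulVec (g : Matrix.GeneralLinearGroup (Fin a × Fin b) F)
    (x : Fin a × Fin b → F) :
    (g : Matrix (Fin a × Fin b) (Fin a × Fin b) F) *ᵥ
      (((g⁻¹ : Matrix.GeneralLinearGroup (Fin a × Fin b) F) :
      Matrix (Fin a × Fin b) (Fin a × Fin b) F) *ᵥ x) = x := by
  rw [Matrix.mulVec_mulVec, ← Units.val_mul, mul_inv_cancel, Units.val_one, Matrix.one_mulVec]

/-- `f (g⁻¹ x, y) = f (x, g y)` for an isometry `g`. -/
theorem G_f_inv {g : Matrix.GeneralLinearGroup (Fin a × Fin b) F} (hg : g ∈ C.G)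
    (x y : Fin a × Fin b → F) :
    C.f (((g⁻¹ : Matrix.GeneralLinearGroup (Fin a × Fin b) F) :
      Matrix (Fin a × Fin b) (Fin a × Fin b) F) *ᵥ x) y =
      C.f x ((g : Matrix (Fin a × Fin b) (Fin a × Fin b) F) *ᵥ y) := by
  rw [← C.G_f hg, mulVec_inv_mulVec]

theorem omega_le_G : Cfsg.Geo.omegaGL C.q ≤ C.G := by
  intro g hg
  unfold Cfsg.Geo.omegaGL at hg
  obtain ⟨g', _, rfl⟩ := hg
  exact g'.2

end Ctx

end Cfsg.Agent.Lib.helper7.TO
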