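import Mathlib
import Cfsg.Prelude.Def_GeometricClasses
import Cfsg.Agent.Lib.helper7.TP.Defs
import Cfsg.Agent.Lib.Helper28.SympAbs

/-!
# Project TO (S5704): `Sp_a(F) ⊗ Sp_b(F)` is maximal in `Ω⁺_{ab}(F)`, `a < b`, not `a = 2 = |F|`

Standard model (shared with project TP): `V = F^(Fin a × Fin b) = A ⊗ B`, `ten u w = u ⊗ w`,
`ctr ψ = 1 ⊗ ψ : V → A`, `Bline w = A ⊗ w`, `K0` = all `α ⊗ₖ β`, `ELm ζ w ψ = 1 + ζ ⊗ₖ (w ψᵀ)`.
Here in addition the mirror notions `ctrA φ = φ ⊗ 1 : V → B`, `Aline u = u ⊗ B`,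
`ERm η u φ = 1 + (u φᵀ) ⊗ₖ η`, and a context `C : Ctx a b F` carrying the symplectic forms `f₁`, `f₂`,
the symmetric form `f = f₁ ⊗ f₂` on `V` and the quadratic form `q` (polar form `f`, zero on pure
tensors).  See `PLAN.md` in this folder.
-/

set_option autoImplicit false

namespace Cfsg.Agent.Lib.helper7.TO

open Matrix Cfsg.Agent.Lib.helper7.TP
open scoped Kronecker

variable {a b : ℕ} {F : Type*} [Field F]

/-! ## The `A`-side mirror of the `TP` vocabulary -/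

/-- the contraction `φ ⊗ 1 : A ⊗ B → B`. -/
def ctrA (φ : Fin a → F) (v : Fin a × Fin b → F) : Fin b → F := fun j => ∑ i, v (i, j) * φ i

/-- the `A`-line `u ⊗ B`. -/
def Aline (u : Fin a → F) : Submodule F (Fin a × Fin b → F) where
  carrier := {v | ∃ y : Fin b → F, v = ten u y}
  add_mem' := by
    rintro _ _ ⟨y, rfl⟩ ⟨y', rfl⟩
    exact ⟨y + y', (ten_add_right u y y').symm⟩
  zero_mem' := ⟨0, by funext p; simp [ten]⟩
  smul_mem' := by
    rintro c _ ⟨y, rfl⟩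
    exact ⟨c • y, (ten_smul_right c u y).symm⟩

theorem mem_Aline (u : Fin a → F) (v : Fin a × Fin b → F) :
    v ∈ Aline (b := b) u ↔ ∃ y : Fin b → F, v = ten u y := Iff.rfl

/-- the matrix `1 + (u φᵀ) ⊗ η`; it acts as `v ↦ v + u ⊗ (η (ctrA φ v))`. -/
def ERm (η : Matrix (Fin b) (Fin b) F) (u φ : Fin a → F) :
    Matrix (Fin a × Fin b) (Fin a × Fin b) F :=
  1 + Matrix.vecMulVec u φ ⊗ₖ η

theorem ctrA_ten (φ u : Fin a → F) (w : Fin b → F) : ctrA φ (ten u w) = (φ ⬝ᵥ u) • w := by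
  funext j
  simp only [ctrA, ten, Pi.smul_apply, smul_eq_mul, dotProduct]
  rw [Finset.sum_mul]
  apply Finset.sum_congr rfl
  intro i _
  ring

theorem ctrA_add (φ : Fin a → F) (v v' : Fin a × Fin b → F) :
    ctrA φ (v + v') = ctrA φ v + ctrA φ v' := by
  funext j
  simp [ctrA, add_mul, Finset.sum_add_distrib]

theorem ctrA_smul (φ : Fin a → F) (c : F) (v : Fin a × Fin b → F) :
    ctrA φ (c • v) = c • ctrA φ v := by
  funext j
  simp [ctrA, Finset.mul_sum, mul_assoc]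

/-- the action of `(u φᵀ) ⊗ η`. -/
theorem vecMulVec_kron_mulVec (η : Matrix (Fin b) (Fin b) F) (u φ : Fin a → F)
    (v : Fin a × Fin b → F) :
    (Matrix.vecMulVec u φ ⊗ₖ η) *ᵥ v = ten u (η *ᵥ ctrA φ v) := by
  funext p
  simp only [Matrix.mulVec, dotProduct, ten, ctrA, Matrix.kroneckerMap_apply, Matrix.vecMulVec_apply,
    Fintype.sum_prod_type]
  rw [Finset.sum_comm, Finset.mul_sum]
  apply Finset.sum_congr rfl
  intro j _
  rw [Finset.mul_sum, Finset.mul_sum]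
  apply Finset.sum_congr rfl
  intro i _
  ring

/-- the action of `ERm η u φ`. -/
theorem ERm_mulVec (η : Matrix (Fin b) (Fin b) F) (u φ : Fin a → F) (v : Fin a × Fin b → F) :
    ERm η u φ *ᵥ v = v + ten u (η *ᵥ ctrA φ v) := by
  rw [ERm, Matrix.add_mulVec, Matrix.one_mulVec, vecMulVec_kron_mulVec]

theorem ERm_mul_ERm (η η' : Matrix (Fin b) (Fin b) F) (u φ : Fin a → F) (h : φ ⬝ᵥ u = 0) :
    ERm η u φ * ERm η' u φ = ERm (η + η') u φ := by
  rw [Matrix.ext_iff_mulVec]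
  intro v
  rw [← Matrix.mulVec_mulVec, ERm_mulVec, ERm_mulVec, ERm_mulVec, ctrA_add, ctrA_ten, h, zero_smul,
    add_zero, Matrix.add_mulVec, ten_add_right]
  abel

theorem ERm_zero (u φ : Fin a → F) : ERm (0 : Matrix (Fin b) (Fin b) F) u φ = 1 := by
  simp [ERm]

/-- `ERm η u φ` as an element of `GL`, for `φ · u = 0`. -/
noncomputable def ER (η : Matrix (Fin b) (Fin b) F) (u φ : Fin a → F) (h : φ ⬝ᵥ u = 0) :
    Matrix.GeneralLinearGroup (Fin a × Fin b) F :=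
  ⟨ERm η u φ, ERm (-η) u φ,
    by rw [ERm_mul_ERm _ _ _ _ h, add_neg_cancel, ERm_zero],
    by rw [ERm_mul_ERm _ _ _ _ h, neg_add_cancel, ERm_zero]⟩

@[simp] theorem ER_coe (η : Matrix (Fin b) (Fin b) F) (u φ : Fin a → F) (h : φ ⬝ᵥ u = 0) :
    ((ER η u φ h : Matrix.GeneralLinearGroup (Fin a × Fin b) F) :
      Matrix (Fin a × Fin b) (Fin a × Fin b) F) = ERm η u φ := rfl

/-! ## Pure tensors span `V` -/

theorem ten_single (i : Fin a) (j : Fin b) :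
    ten (Pi.single i (1 : F)) (Pi.single j (1 : F)) = Pi.single (i, j) (1 : F) := by
  funext p
  obtain ⟨i', j'⟩ := p
  simp only [ten, Pi.single_apply, Prod.mk.injEq]
  by_cases hi : i' = i <;> by_cases hj : j' = j <;> simp [hi, hj]

/-- two matrices that agree on all pure tensors are equal. -/
theorem mat_ext_ten {X Y : Matrix (Fin a × Fin b) (Fin a × Fin b) F}
    (h : ∀ (u : Fin a → F) (w : Fin b → F), X *ᵥ ten u w = Y *ᵥ ten u w) : X = Y := by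
  ext p r
  obtain ⟨i, j⟩ := r
  have := congrFun (h (Pi.single i 1) (Pi.single j 1)) p
  rw [ten_single, Matrix.mulVec_single_one, Matrix.mulVec_single_one] at this
  exact this

/-- an additive map (in particular a linear one) that kills all pure tensors is zero: stated for two linear maps. -/
theorem lin_ext_ten {W : Type*} [AddCommGroup W] [Module F W]
    {L L' : (Fin a × Fin b → F) →ₗ[F] W}
    (h : ∀ (u : Fin a → F) (w : Fin b → F), L (ten u w) = L' (ten u w)) : L = L' := by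
  apply LinearMap.pi_ext'
  intro p
  apply LinearMap.ext_ring
  obtain ⟨i, j⟩ := p
  have := h (Pi.single i 1) (Pi.single j 1)
  rw [ten_single] at this
  simpa using this

/-! ## The Kronecker embeddings `α ↦ α ⊗ 1`, `β ↦ 1 ⊗ β` -/

/-- `α ↦ α ⊗ₖ 1`. -/
noncomputable def kA (a b : ℕ) (F : Type*) [Field F] :
    Matrix.GeneralLinearGroup (Fin a) F →* Matrix.GeneralLinearGroup (Fin a × Fin b) F :=
  Units.map
    { toFun := fun α => α ⊗ₖ (1 : Matrix (Fin b) (Fin b) F)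
      map_one' := Matrix.one_kronecker_one
      map_mul' := fun x y => by rw [← Matrix.mul_kronecker_mul, mul_one] }

/-- `β ↦ 1 ⊗ₖ β`. -/
noncomputable def kB (a b : ℕ) (F : Type*) [Field F] :
    Matrix.GeneralLinearGroup (Fin b) F →* Matrix.GeneralLinearGroup (Fin a × Fin b) F :=
  Units.map
    { toFun := fun β => (1 : Matrix (Fin a) (Fin a) F) ⊗ₖ β
      map_one' := Matrix.one_kronecker_one
      map_mul' := fun x y => by rw [← Matrix.mul_kronecker_mul, mul_one] }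

@[simp] theorem kA_coe (α : Matrix.GeneralLinearGroup (Fin a) F) :
    ((kA a b F α : Matrix.GeneralLinearGroup (Fin a × Fin b) F) :
      Matrix (Fin a × Fin b) (Fin a × Fin b) F) =
      (α : Matrix (Fin a) (Fin a) F) ⊗ₖ (1 : Matrix (Fin b) (Fin b) F) := rfl

@[simp] theorem kB_coe (β : Matrix.GeneralLinearGroup (Fin b) F) :
    ((kB a b F β : Matrix.GeneralLinearGroup (Fin a × Fin b) F) :
      Matrix (Fin a × Fin b) (Fin a × Fin b) F) =
      (1 : Matrix (Fin a) (Fin a) F) ⊗ₖ (β : Matrix (Fin b) (Fin b) F) := rfl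

theorem kA_mulVec_ten (α : Matrix.GeneralLinearGroup (Fin a) F) (u : Fin a → F) (w : Fin b → F) :
    ((kA a b F α : Matrix.GeneralLinearGroup (Fin a × Fin b) F) :
      Matrix (Fin a × Fin b) (Fin a × Fin b) F) *ᵥ ten u w =
      ten ((α : Matrix (Fin a) (Fin a) F) *ᵥ u) w := by
  rw [kA_coe, kron_mulVec_ten, Matrix.one_mulVec]

theorem kB_mulVec_ten (β : Matrix.GeneralLinearGroup (Fin b) F) (u : Fin a → F) (w : Fin b → F) :
    ((kB a b F β : Matrix.GeneralLinearGroup (Fin a × Fin b) F) :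
      Matrix (Fin a × Fin b) (Fin a × Fin b) F) *ᵥ ten u w =
      ten u ((β : Matrix (Fin b) (Fin b) F) *ᵥ w) := by
  rw [kB_coe, kron_mulVec_ten, Matrix.one_mulVec]

theorem kA_mem_K0 (α : Matrix.GeneralLinearGroup (Fin a) F) : kA a b F α ∈ K0 a b F :=
  (mem_K0 _).mpr ⟨α, 1, rfl⟩

theorem kB_mem_K0 (β : Matrix.GeneralLinearGroup (Fin b) F) : kB a b F β ∈ K0 a b F :=
  (mem_K0 _).mpr ⟨1, β, rfl⟩

theorem kA_kB_comm (α : Matrix.GeneralLinearGroup (Fin a) F)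
    (β : Matrix.GeneralLinearGroup (Fin b) F) :
    kA a b F α * kB a b F β = kB a b F β * kA a b F α := by
  apply Units.ext
  rw [Units.val_mul, Units.val_mul, kA_coe, kB_coe, ← Matrix.mul_kronecker_mul,
    ← Matrix.mul_kronecker_mul, mul_one, one_mul, mul_one, one_mul]

/-! ## Transvection matrices of an abstract symplectic form -/

/-- the matrix of the transvection `x ↦ x + c f(x, u) u` of the form `f` on `F^n`. -/
def tvm {n : ℕ} (f : (Fin n → F) → (Fin n → F) → F) (u : Fin n → F) (c : F) :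
    Matrix (Fin n) (Fin n) F :=
  1 + c • Matrix.vecMulVec u (Cfsg.Agent.Lib.Helper28.SympAbs.rho f u)

theorem tvm_mulVec {n : ℕ} {f : (Fin n → F) → (Fin n → F) → F}
    (hf : Cfsg.Geo.IsSymplecticForm f) (u : Fin n → F) (c : F) (x : Fin n → F) :
    tvm f u c *ᵥ x = x + (c * f x u) • u := by
  rw [tvm, Matrix.add_mulVec, Matrix.one_mulVec, Matrix.smul_mulVec, Matrix.vecMulVec_mulVec,
    Cfsg.Agent.Lib.Helper28.SympAbs.f_eq_dot hf]
  congr 1
  funext i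
  simp only [Pi.smul_apply, smul_eq_mul, MulOpposite.smul_eq_mul_unop, MulOpposite.unop_op]
  ring

theorem tvm_mul_tvm {n : ℕ} {f : (Fin n → F) → (Fin n → F) → F}
    (hf : Cfsg.Geo.IsSymplecticForm f) (u : Fin n → F) (c c' : F) :
    tvm f u c * tvm f u c' = tvm f u (c + c') := by
  rw [Matrix.ext_iff_mulVec]
  intro x
  rw [← Matrix.mulVec_mulVec, tvm_mulVec hf, tvm_mulVec hf, tvm_mulVec hf, hf.bilinear.add_left,
    hf.bilinear.smul_left, hf.alternating, mul_zero, add_zero, add_mul, add_smul]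
  abel

theorem tvm_zero {n : ℕ} (f : (Fin n → F) → (Fin n → F) → F) (u : Fin n → F) :
    tvm f u 0 = 1 := by
  simp [tvm]

/-- the transvection `x ↦ x + c f(x, u) u` as an element of `GL_n(F)`. -/
noncomputable def tvg {n : ℕ} {f : (Fin n → F) → (Fin n → F) → F}
    (hf : Cfsg.Geo.IsSymplecticForm f) (u : Fin n → F) (c : F) :
    Matrix.GeneralLinearGroup (Fin n) F :=
  ⟨tvm f u c, tvm f u (-c),
    by rw [tvm_mul_tvm hf, add_neg_cancel, tvm_zero],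
    by rw [tvm_mul_tvm hf, neg_add_cancel, tvm_zero]⟩

@[simp] theorem tvg_coe {n : ℕ} {f : (Fin n → F) → (Fin n → F) → F}
    (hf : Cfsg.Geo.IsSymplecticForm f) (u : Fin n → F) (c : F) :
    ((tvg hf u c : Matrix.GeneralLinearGroup (Fin n) F) : Matrix (Fin n) (Fin n) F) = tvm f u c :=
  rfl

theorem tvg_mem_TT {n : ℕ} {f : (Fin n → F) → (Fin n → F) → F}
    (hf : Cfsg.Geo.IsSymplecticForm f) (u : Fin n → F) (c : F) :
    tvg hf u c ∈ Cfsg.Agent.Lib.Helper28.SympAbs.TT f :=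
  Subgroup.subset_closure ⟨u, c, fun x => by rw [tvg_coe, tvm_mulVec hf]⟩

/-- the adjoint of `ζ` for the form `f` through the Gram matrix: `f (ζ x) y = f x (adjm f ζ y)`. -/
noncomputable def adjm {n : ℕ} (f : (Fin n → F) → (Fin n → F) → F) (ζ : Matrix (Fin n) (Fin n) F) :
    Matrix (Fin n) (Fin n) F :=
  (Cfsg.Geo.gramMatrix f)⁻¹ * ζ.transpose * Cfsg.Geo.gramMatrix f

/-! ## The context -/

/-- The data of project TO: non-degenerate symplectic forms `f₁` on `A = F^a`, `f₂` on `B = F^b`, a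
bilinear form `f` on `V = A ⊗ B` with `f (u ⊗ w) (u' ⊗ w') = f₁ u u' * f₂ w w'`, and a quadratic
form `q` on `V` with polar form `f` that vanishes on all pure tensors. -/
structure Ctx (a b : ℕ) (F : Type*) [Field F] where
  f₁ : (Fin a → F) → (Fin a → F) → F
  f₂ : (Fin b → F) → (Fin b → F) → F
  f : (Fin a × Fin b → F) → (Fin a × Fin b → F) → F
  q : (Fin a × Fin b → F) → F
  hf₁ : Cfsg.Geo.IsSymplecticForm f₁
  hf₂ : Cfsg.Geo.IsSymplecticForm f₂
  hf : Cfsg.Geo.IsBilinearForm f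
  f_ten : ∀ (u : Fin a → F) (w : Fin b → F) (u' : Fin a → F) (w' : Fin b → F),
    f (ten u w) (ten u' w') = f₁ u u' * f₂ w w'
  q_smul : ∀ (c : F) (x : Fin a × Fin b → F), q (c • x) = c * c * q x
  q_add : ∀ x y : Fin a × Fin b → F, q (x + y) = q x + q y + f x y
  q_ten : ∀ (u : Fin a → F) (w : Fin b → F), q (ten u w) = 0

namespace Ctx

variable (C : Ctx a b F)

/-- the covector of `u ∈ A`: `C.fl₁ u ⬝ᵥ x = f₁ x u`. -/
def fl₁ (u : Fin a → F) : Fin a → F := Cfsg.Agent.Lib.Helper28.SympAbs.rho C.f₁ u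

/-- the covector of `w ∈ B`: `C.fl₂ w ⬝ᵥ y = f₂ y w`. -/
def fl₂ (w : Fin b → F) : Fin b → F := Cfsg.Agent.Lib.Helper28.SympAbs.rho C.f₂ w

theorem fl₁_dot (u x : Fin a → F) : C.fl₁ u ⬝ᵥ x = C.f₁ x u :=
  (Cfsg.Agent.Lib.Helper28.SympAbs.f_eq_dot C.hf₁ x u).symm

theorem fl₂_dot (w y : Fin b → F) : C.fl₂ w ⬝ᵥ y = C.f₂ y w :=
  (Cfsg.Agent.Lib.Helper28.SympAbs.f_eq_dot C.hf₂ y w).symm

theorem fl₁_self (u : Fin a → F) : C.fl₁ u ⬝ᵥ u = 0 := by
  rw [fl₁_dot, C.hf₁.alternating]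

theorem fl₂_self (w : Fin b → F) : C.fl₂ w ⬝ᵥ w = 0 := by
  rw [fl₂_dot, C.hf₂.alternating]

/-- `ctr (fl₂ n) (x ⊗ y) = f₂ y n • x`. -/
theorem ctr_fl₂_ten (n : Fin b → F) (x : Fin a → F) (y : Fin b → F) :
    ctr (C.fl₂ n) (ten x y) = C.f₂ y n • x := by
  rw [ctr_ten, fl₂_dot]

/-- `ctrA (fl₁ u) (x ⊗ y) = f₁ x u • y`. -/
theorem ctrA_fl₁_ten (u x : Fin a → F) (y : Fin b → F) :
    ctrA (C.fl₁ u) (ten x y) = C.f₁ x u • y := by
  rw [ctrA_ten, fl₁_dot]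

/-- the isometry group of `q`. -/
def G : Subgroup (Matrix.GeneralLinearGroup (Fin a × Fin b) F) := Cfsg.isometryGroup F C.q

theorem mem_G (g : Matrix.GeneralLinearGroup (Fin a × Fin b) F) :
    g ∈ C.G ↔ ∀ x, C.q ((g : Matrix (Fin a × Fin b) (Fin a × Fin b) F) *ᵥ x) = C.q x := by
  unfold G Cfsg.isometryGroup Cfsg.preserving
  constructor
  · intro h x
    exact h x x
  · intro h x _
    exact h x

/-- the `B`-transvection `1 ⊗ τ_w(c)`, `τ_w(c) y = y + c f₂(y, w) w`. -/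
noncomputable def tvB (w : Fin b → F) (c : F) : Matrix.GeneralLinearGroup (Fin a × Fin b) F :=
  EL (c • (1 : Matrix (Fin a) (Fin a) F)) w (C.fl₂ w) (C.fl₂_self w)

/-- the `A`-transvection `τ_u(c) ⊗ 1`, `τ_u(c) x = x + c f₁(x, u) u`. -/
noncomputable def tvA (u : Fin a → F) (c : F) : Matrix.GeneralLinearGroup (Fin a × Fin b) F :=
  ER (c • (1 : Matrix (Fin b) (Fin b) F)) u (C.fl₁ u) (C.fl₁_self u)

theorem tvB_mulVec_ten (w : Fin b → F) (c : F) (x : Fin a → F) (y : Fin b → F) :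
    ((C.tvB w c : Matrix.GeneralLinearGroup (Fin a × Fin b) F) :
      Matrix (Fin a × Fin b) (Fin a × Fin b) F) *ᵥ ten x y =
      ten x y + (c * C.f₂ y w) • ten x w := by
  rw [tvB, EL_coe, ELm_mulVec, C.ctr_fl₂_ten, Matrix.smul_mulVec, Matrix.one_mulVec, smul_smul,
    ten_smul_left]

theorem tvA_mulVec_ten (u : Fin a → F) (c : F) (x : Fin a → F) (y : Fin b → F) :
    ((C.tvA u c : Matrix.GeneralLinearGroup (Fin a × Fin b) F) :
      Matrix (Fin a × Fin b) (Fin a × Fin b) F) *ᵥ ten x y =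
      ten x y + (c * C.f₁ x u) • ten u y := by
  rw [tvA, ER_coe, ERm_mulVec, C.ctrA_fl₁_ten, Matrix.smul_mulVec, Matrix.one_mulVec, smul_smul,
    ten_smul_right]

theorem tvB_eq_kB (w : Fin b → F) (c : F) : C.tvB w c = kB a b F (tvg C.hf₂ w c) := by
  apply Units.ext
  apply mat_ext_ten
  intro x y
  rw [tvB_mulVec_ten, kB_mulVec_ten, tvg_coe, tvm_mulVec C.hf₂, ten_add_right, ten_smul_right]

theorem tvA_eq_kA (u : Fin a → F) (c : F) : C.tvA u c = kA a b F (tvg C.hf₁ u c) := by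
  apply Units.ext
  apply mat_ext_ten
  intro x y
  rw [tvA_mulVec_ten, kA_mulVec_ten, tvg_coe, tvm_mulVec C.hf₁, ten_add_left, ten_smul_left]

/-- `T1 = Sp(A) ⊗ Sp(B)`: generated by the `α ⊗ 1`, `α` a product of transvections of `f₁`
(`= ` any isometry of `f₁`, `Helper28.Ss.iso_mem_TT`), and the `1 ⊗ β` likewise. -/
noncomputable def T1 : Subgroup (Matrix.GeneralLinearGroup (Fin a × Fin b) F) :=
  (Cfsg.Agent.Lib.Helper28.SympAbs.TT C.f₁).map (kA a b F) ⊔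
    (Cfsg.Agent.Lib.Helper28.SympAbs.TT C.f₂).map (kB a b F)

theorem kA_mem_T1 {α : Matrix.GeneralLinearGroup (Fin a) F}
    (h : α ∈ Cfsg.Agent.Lib.Helper28.SympAbs.TT C.f₁) : kA a b F α ∈ C.T1 :=
  (le_sup_left : _ ≤ C.T1) (Subgroup.mem_map_of_mem _ h)

theorem kB_mem_T1 {β : Matrix.GeneralLinearGroup (Fin b) F}
    (h : β ∈ Cfsg.Agent.Lib.Helper28.SympAbs.TT C.f₂) : kB a b F β ∈ C.T1 :=
  (le_sup_right : _ ≤ C.T1) (Subgroup.mem_map_of_mem _ h)

theorem tvA_mem_T1 (u : Fin a → F) (c : F) : C.tvA u c ∈ C.T1 := by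
  rw [tvA_eq_kA]
  exact C.kA_mem_T1 (tvg_mem_TT C.hf₁ u c)

theorem tvB_mem_T1 (w : Fin b → F) (c : F) : C.tvB w c ∈ C.T1 := by
  rw [tvB_eq_kB]
  exact C.kB_mem_T1 (tvg_mem_TT C.hf₂ w c)

/-- the Siegel map `x ↦ x + c (f(p, x) v - f(v, x) p)` (the convention of `Helper28.OMax.Tv`). -/
def sgv (p v : Fin a × Fin b → F) (c : F) (x : Fin a × Fin b → F) : Fin a × Fin b → F :=
  x + c • (C.f p x • v - C.f v x • p)

/-- `t` is the Siegel element of `(p, v)` with parameter `c`. -/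
def IsSgV (t : Matrix.GeneralLinearGroup (Fin a × Fin b) F) (p v : Fin a × Fin b → F) (c : F) :
    Prop :=
  ∀ x, (t : Matrix (Fin a × Fin b) (Fin a × Fin b) F) *ᵥ x = C.sgv p v c x

/-- `M` contains a non-trivial Siegel element of `A`-type: `S(u ⊗ w, u ⊗ z; c)`, `u ≠ 0`, `c ≠ 0`,
`w, z` linearly independent with `f₂ w z = 0`. -/
def SgA (M : Subgroup (Matrix.GeneralLinearGroup (Fin a × Fin b) F)) : Prop :=
  ∃ (t : Matrix.GeneralLinearGroup (Fin a × Fin b) F) (u : Fin a → F) (w z : Fin b → F) (c : F),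
    t ∈ M ∧ u ≠ 0 ∧ c ≠ 0 ∧ w ≠ 0 ∧ (∀ l : F, z ≠ l • w) ∧ C.f₂ w z = 0 ∧
      C.IsSgV t (ten u w) (ten u z) c

/-- `h = 1 + Z ⊗ w n* + Zs ⊗ n w* + κ ⊗ w w*` (an element of `U_{A ⊗ ⟨w, n⟩}`), through its action on
pure tensors. -/
def IsHB (h : Matrix.GeneralLinearGroup (Fin a × Fin b) F) (Z Zs κ : Matrix (Fin a) (Fin a) F)
    (w n : Fin b → F) : Prop :=
  ∀ (x : Fin a → F) (y : Fin b → F),
    (h : Matrix (Fin a × Fin b) (Fin a × Fin b) F) *ᵥ ten x y =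
      ten x y + C.f₂ y n • ten (Z *ᵥ x) w + C.f₂ y w • ten (Zs *ᵥ x) n + C.f₂ y w • ten (κ *ᵥ x) w

/-- `h = 1 + u x₁* ⊗ ζ + x₁ u* ⊗ ζs + u u* ⊗ κ` (an element of `U_{⟨u, x₁⟩ ⊗ B}`), through its action
on pure tensors. -/
def IsHA (h : Matrix.GeneralLinearGroup (Fin a × Fin b) F) (ζ ζs κ : Matrix (Fin b) (Fin b) F)
    (u x₁ : Fin a → F) : Prop :=
  ∀ (x : Fin a → F) (y : Fin b → F),
    (h : Matrix (Fin a × Fin b) (Fin a × Fin b) F) *ᵥ ten x y =
      ten x y + C.f₁ x x₁ • ten u (ζ *ᵥ y) + C.f₁ x u • ten x₁ (ζs *ᵥ y) + C.f₁ x u • ten u (κ *ᵥ y)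

/-- the generalised Siegel map of `(p, v)`, `v ∈ p^⊥` not necessarily singular:
`x ↦ x + f(p, x) v - f(v, x) p - q(v) f(p, x) p` (for `q v = 0` it is `sgv p v 1`). -/
def IsSgQ (t : Matrix.GeneralLinearGroup (Fin a × Fin b) F) (p v : Fin a × Fin b → F) : Prop :=
  ∀ x, (t : Matrix (Fin a × Fin b) (Fin a × Fin b) F) *ᵥ x =
    x + C.f p x • v - C.f v x • p - (C.q v * C.f p x) • p

/-- `M` contains every Siegel element. -/
def SgAll (M : Subgroup (Matrix.GeneralLinearGroup (Fin a × Fin b) F)) : Prop :=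
  ∀ (t : Matrix.GeneralLinearGroup (Fin a × Fin b) F) (p v : Fin a × Fin b → F) (c : F),
    C.q p = 0 → C.q v = 0 → C.f p v = 0 → C.IsSgV t p v c → t ∈ M

/-- the adjoint for `f₁`: `f₁ (Z x) y = f₁ x (adj₁ Z y)`. -/
noncomputable def adj₁ (Z : Matrix (Fin a) (Fin a) F) : Matrix (Fin a) (Fin a) F :=
  adjm C.f₁ Z

/-- the adjoint for `f₂`: `f₂ (ζ y) y' = f₂ y (adj₂ ζ y')`. -/
noncomputable def adj₂ (ζ : Matrix (Fin b) (Fin b) F) : Matrix (Fin b) (Fin b) F :=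
  adjm C.f₂ ζ

/-- UNIP on the `A`-side: `M ∩ U_{u ⊗ B} = {τ_u(c) ⊗ 1}`. -/
def UnipA (M : Subgroup (Matrix.GeneralLinearGroup (Fin a × Fin b) F)) : Prop :=
  ∀ g ∈ M, ∀ (u : Fin a → F) (η : Matrix (Fin b) (Fin b) F), u ≠ 0 →
    (g : Matrix (Fin a × Fin b) (Fin a × Fin b) F) = ERm η u (C.fl₁ u) →
    ∃ c : F, η = c • (1 : Matrix (Fin b) (Fin b) F)

/-- the strong NT on the `A`-side: `M ∩ Q_{u ⊗ B} = Q_u ⊗ 1`. -/
def NtsA (M : Subgroup (Matrix.GeneralLinearGroup (Fin a × Fin b) F)) : Prop :=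
  ∀ h ∈ M, ∀ u : Fin a → F, u ≠ 0 →
    (∀ y : Fin b → F,
      (h : Matrix (Fin a × Fin b) (Fin a × Fin b) F) *ᵥ ten u y = ten u y) →
    (∀ x : Fin a → F, C.f₁ x u = 0 → ∀ y : Fin b → F, ∃ y' : Fin b → F,
      (h : Matrix (Fin a × Fin b) (Fin a × Fin b) F) *ᵥ ten x y = ten x y + ten u y') →
    ∃ (x₀ : Fin a → F) (c₀ : F), C.f₁ x₀ u = 0 ∧
      C.IsHA h 1 1 (c₀ • (1 : Matrix (Fin b) (Fin b) F)) u x₀

/-- the strong NT on the `B`-side: `M ∩ Q_{A ⊗ w} = 1 ⊗ Q_w`. -/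
def NtsB (M : Subgroup (Matrix.GeneralLinearGroup (Fin a × Fin b) F)) : Prop :=
  ∀ h ∈ M, ∀ w : Fin b → F, w ≠ 0 →
    (∀ x : Fin a → F,
      (h : Matrix (Fin a × Fin b) (Fin a × Fin b) F) *ᵥ ten x w = ten x w) →
    (∀ n : Fin b → F, C.f₂ n w = 0 → ∀ x : Fin a → F, ∃ x' : Fin a → F,
      (h : Matrix (Fin a × Fin b) (Fin a × Fin b) F) *ᵥ ten x n = ten x n + ten x' w) →
    ∃ (n₀ : Fin b → F) (c₀ : F), C.f₂ n₀ w = 0 ∧
      C.IsHB h 1 1 (c₀ • (1 : Matrix (Fin a) (Fin a) F)) w n₀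

end Ctx

/-- STAB on the `A`-side: an element of `M` mapping an `A`-line into an `A`-line lies in `K0`. -/
def StabA (M : Subgroup (Matrix.GeneralLinearGroup (Fin a × Fin b) F)) : Prop :=
  ∀ g ∈ M, ∀ u u' : Fin a → F, u ≠ 0 → u' ≠ 0 →
    (∀ y : Fin b → F, ∃ y' : Fin b → F,
      (g : Matrix (Fin a × Fin b) (Fin a × Fin b) F) *ᵥ ten u y = ten u' y') →
    g ∈ K0 a b F

/-- STAB on the `B`-side: an element of `M` mapping a `B`-line into a `B`-line lies in `K0`. -/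
def StabB (M : Subgroup (Matrix.GeneralLinearGroup (Fin a × Fin b) F)) : Prop :=
  ∀ g ∈ M, ∀ w w' : Fin b → F, w ≠ 0 → w' ≠ 0 →
    (∀ x : Fin a → F, ∃ x' : Fin a → F,
      (g : Matrix (Fin a × Fin b) (Fin a × Fin b) F) *ᵥ ten x w = ten x' w') →
    g ∈ K0 a b F

end Cfsg.Agent.Lib.helper7.TO
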