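import Cfsg.Agent.Lib.helper7.TO.NS
import Cfsg.Agent.Lib.helper7.TP.MeetC

/-!
# Project TO (S5704), piece MEET (helper7): `meet_of_stabB`

Port of `helper7.TP.tpmeet_core` (Sylow argument in `⟨x, y⟩`, `x = 1 ⊗ τ_w`, `y = g (1 ⊗ τ_{w₀}) g⁻¹`).
-/

set_option autoImplicit false
set_option linter.unusedVariables false

namespace Cfsg.Agent.Lib.helper7.TO

open Matrix Module
open scoped Kronecker
open Cfsg.Agent.Lib.helper7.TP

variable {a b : ℕ} {F : Type*} [Field F]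

/-- MEET, abstract form: `tpmeet_core` with the membership of the two `B`-transvections in `M`, PGRP
and NS as hypotheses. -/
theorem tomeet_core [Fintype F] (p : ℕ) [Fact p.Prime] [CharP F p] (ha : 1 ≤ a) (hab : a < b)
    (hb : 3 ≤ b) (M : Subgroup (Matrix.GeneralLinearGroup (Fin a × Fin b) F))
    (g : Matrix.GeneralLinearGroup (Fin a × Fin b) F) (hg : g ∈ M) (hgK : g ∉ K0 a b F)
    (w₀ ψ₀ : Fin b → F) (hw₀ : w₀ ≠ 0) (hψ₀ : ψ₀ ≠ 0) (h₀ : ψ₀ ⬝ᵥ w₀ = 0)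
    (hx₀M : EL (1 : Matrix (Fin a) (Fin a) F) w₀ ψ₀ h₀ ∈ M)
    (hPG : ∀ Q : Subgroup (Matrix.GeneralLinearGroup (Fin a × Fin b) F), Q ≤ M → IsPGroup p Q →
      ∀ (w ψ : Fin b → F), w ≠ 0 → ψ ≠ 0 → ∀ hψw : ψ ⬝ᵥ w = 0,
        EL (1 : Matrix (Fin a) (Fin a) F) w ψ hψw ∈ Q → Q ≤ K0 a b F)
    (hNS : ∀ ψ : Fin b → F, ψ ≠ 0 →
      (∀ u : Fin a → F,
        ctr ψ ((g : Matrix (Fin a × Fin b) (Fin a × Fin b) F) *ᵥ ten u w₀) = 0) → g ∈ K0 a b F)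
    (w ψ : Fin b → F) (hw : w ≠ 0) (hψ : ψ ≠ 0) (hψw : ψ ⬝ᵥ w = 0)
    (hxM : EL (1 : Matrix (Fin a) (Fin a) F) w ψ hψw ∈ M) (u : Fin a → F)
    (hv : ctr ψ₀ (((g⁻¹ : Matrix.GeneralLinearGroup (Fin a × Fin b) F) :
      Matrix (Fin a × Fin b) (Fin a × Fin b) F) *ᵥ ten u w) = 0) :
    ∃ u₀ : Fin a → F,
      ten u w = (g : Matrix (Fin a × Fin b) (Fin a × Fin b) F) *ᵥ ten u₀ w₀ := by
  classical
  set x₀ : Matrix.GeneralLinearGroup (Fin a × Fin b) F :=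
    EL (1 : Matrix (Fin a) (Fin a) F) w₀ ψ₀ h₀ with hx₀
  set x : Matrix.GeneralLinearGroup (Fin a × Fin b) F :=
    EL (1 : Matrix (Fin a) (Fin a) F) w ψ hψw with hx
  set y : Matrix.GeneralLinearGroup (Fin a × Fin b) F := g * x₀ * g⁻¹ with hy
  have hyM : y ∈ M := M.mul_mem (M.mul_mem hg hx₀M) (M.inv_mem hg)
  have hxp : x ^ p = 1 := tpmeet_EL_pow_char p 1 w ψ hψw
  have hyp : y ^ p = 1 := by
    rw [hy, conj_pow, hx₀, tpmeet_EL_pow_char p 1 w₀ ψ₀ h₀, mul_one, mul_inv_cancel]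
  -- the vector `v = u ⊗ w` is fixed by `x` and `y`
  have hxv : (x : Matrix (Fin a × Fin b) (Fin a × Fin b) F) *ᵥ ten u w = ten u w := by
    rw [hx, EL_coe, ELm_mulVec, ctr_ten, hψw, zero_smul, Matrix.mulVec_zero, tpmeet_ten_zero,
      add_zero]
  have hyv : (y : Matrix (Fin a × Fin b) (Fin a × Fin b) F) *ᵥ ten u w = ten u w := by
    have := tpmeet_conj_EL_move g w₀ ψ₀ h₀ (ten u w)
    rw [hv, tpmeet_ten_zero, Matrix.mulVec_zero, sub_eq_zero] at this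
    exact this
  -- how `x` and `y` move vectors
  have hxmove : ∀ z : Fin a × Fin b → F,
      (x : Matrix (Fin a × Fin b) (Fin a × Fin b) F) *ᵥ z - z ∈ Bline (a := a) w := by
    intro z
    refine ⟨ctr ψ z, ?_⟩
    rw [hx, EL_coe, ELm_mulVec, Matrix.one_mulVec, add_sub_cancel_left]
  set S : Submodule F (Fin a × Fin b → F) :=
    (Bline (a := a) w₀).map (g : Matrix (Fin a × Fin b) (Fin a × Fin b) F).mulVecLin with hS
  have hymove : ∀ z : Fin a × Fin b → F,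
      (y : Matrix (Fin a × Fin b) (Fin a × Fin b) F) *ᵥ z - z ∈ S := by
    intro z
    rw [hy, hx₀, tpmeet_conj_EL_move]
    exact ⟨_, ⟨_, rfl⟩, rfl⟩
  -- Sylow
  obtain ⟨P, h, hP, hPD, hhD, hxP, htP⟩ := tpmeet_sylow p x y hxp hyp
  have hDM : Subgroup.closure {x, y} ≤ M := by
    rw [Subgroup.closure_le]
    rintro z (rfl | hz)
    · exact hxM
    · rw [Set.mem_singleton_iff] at hz
      subst hz
      exact hyM
  have hPK : P ≤ K0 a b F :=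
    hPG P (hPD.trans hDM) hP w ψ hw hψ hψw hxP
  have htK : h * y * h⁻¹ ∈ K0 a b F := hPK htP
  have ht_eq : h * y * h⁻¹ = (h * g) * x₀ * (h * g)⁻¹ := by
    rw [hy]
    group
  rw [ht_eq] at htK
  -- `C1`
  have hsq := tpmeet_conj_sq_zero (h * g) x₀
    (by rw [hx₀, EL_coe]; exact tpmeet_ELm_sub_one_sq w₀ ψ₀ h₀)
  have hrk : (((h * g * x₀ * (h * g)⁻¹ : Matrix.GeneralLinearGroup (Fin a × Fin b) F) :
      Matrix (Fin a × Fin b) (Fin a × Fin b) F) - 1).rank = a := by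
    rw [tpmeet_conj_rank, hx₀, EL_coe, tpmeet_rank_ELm_sub_one w₀ ψ₀ hw₀ hψ₀]
  obtain ⟨w', hw', hw'img⟩ := sqzero_kron ha hab _ htK hsq hrk
  have himg : ∀ v : Fin a × Fin b → F, v ∈ Bline (a := a) w' ↔
      ∃ u₁ : Fin a → F, v = (h : Matrix (Fin a × Fin b) (Fin a × Fin b) F) *ᵥ
        ((g : Matrix (Fin a × Fin b) (Fin a × Fin b) F) *ᵥ ten u₁ w₀) := by
    intro v
    rw [← hw'img v, hx₀, tpmeet_conj_EL_range (h * g) w₀ ψ₀ h₀ hψ₀ v]
    simp only [Units.val_mul, Matrix.mulVec_mulVec]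
  have hhinv : h⁻¹ ∈ Subgroup.closure {x, y} := Subgroup.inv_mem _ hhD
  by_cases hdep : ∃ c : F, w' = c • w
  · -- `w'` is a multiple of `w`
    obtain ⟨c, rfl⟩ := hdep
    have hc : c ≠ 0 := by
      rintro rfl
      exact hw' (zero_smul _ _)
    have hmem : ten u w ∈ Bline (a := a) (c • w) := by
      refine ⟨c⁻¹ • u, ?_⟩
      rw [ten_smul_left, ten_smul_right, smul_smul, inv_mul_cancel₀ hc, one_smul]
    obtain ⟨u₁, hu₁⟩ := (himg _).mp hmem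
    refine ⟨u₁, ?_⟩
    have hfix := tpmeet_closure_fix x y (ten u w) hxv hyv h⁻¹ hhinv
    rw [← hfix]
    conv_lhs => rw [hu₁]
    rw [Matrix.mulVec_mulVec, ← Units.val_mul, inv_mul_cancel, Units.val_one, Matrix.one_mulVec]
  · -- `w, w'` independent: contradiction
    exfalso
    have hmove := tpmeet_closure_move x y (Bline (a := a) w) S hxmove hymove h hhD
    have hle : Bline (a := a) w' ≤ Bline (a := a) w ⊔ S := by
      intro l' hl'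
      obtain ⟨u₁, rfl⟩ := (himg l').mp hl'
      have hsS : (g : Matrix (Fin a × Fin b) (Fin a × Fin b) F) *ᵥ ten u₁ w₀ ∈ S :=
        ⟨_, ⟨_, rfl⟩, rfl⟩
      have := Submodule.add_mem _
        (hmove ((g : Matrix (Fin a × Fin b) (Fin a × Fin b) F) *ᵥ ten u₁ w₀))
        (Submodule.mem_sup_right hsS)
      rwa [sub_add_cancel] at this
    have hSfin : finrank F S ≤ a :=
      (Submodule.finrank_map_le _ _).trans (tpmeet_finrank_Bline (a := a) w₀ hw₀).le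
    have hSle := tpmeet_le_sup_of_finrank (Bline (a := a) w) (Bline (a := a) w') S a
      (tpmeet_finrank_Bline w hw) (tpmeet_finrank_Bline w' hw') hSfin
      (tpmeet_Bline_inf w w' hw hdep) hle
    obtain ⟨ψ', hψ', hψ'w, hψ'w'⟩ := tpmeet_exists_perp2 hb w w'
    have hkill : ∀ u₁ : Fin a → F,
        ctr ψ' ((g : Matrix (Fin a × Fin b) (Fin a × Fin b) F) *ᵥ ten u₁ w₀) = 0 := by
      intro u₁
      have hsS : (g : Matrix (Fin a × Fin b) (Fin a × Fin b) F) *ᵥ ten u₁ w₀ ∈ S :=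
        ⟨_, ⟨_, rfl⟩, rfl⟩
      obtain ⟨l, ⟨u₂, rfl⟩, l', ⟨u₃, rfl⟩, hsum⟩ := Submodule.mem_sup.mp (hSle hsS)
      rw [← hsum, ctr_add, ctr_ten, ctr_ten, hψ'w, hψ'w', zero_smul, zero_smul, add_zero]
    exact hgK (hNS ψ' hψ' hkill)

/-- every covector is `fl₂ w₂`. -/
theorem tomeet_fl₂_surj (C : Ctx a b F) (ψ : Fin b → F) : ∃ w₂ : Fin b → F, C.fl₂ w₂ = ψ := by
  classical
  obtain ⟨w₂, hw₂⟩ := Cfsg.Agent.Lib.Helper28.SympAbs.rho_surj C.hf₂ ψ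
  refine ⟨w₂, ?_⟩
  funext i
  have h1 := C.fl₂_dot w₂ (Pi.single i 1)
  rw [hw₂, dotProduct_single_one, dotProduct_single_one] at h1
  exact h1

/-- `fl₂ 0 = 0`. -/
theorem tomeet_fl₂_zero (C : Ctx a b F) : C.fl₂ (0 : Fin b → F) = 0 := by
  classical
  funext i
  have h1 := C.fl₂_dot 0 (Pi.single i 1)
  rw [dotProduct_single_one] at h1
  rw [h1, Pi.zero_apply]
  have := C.hf₂.bilinear.smul_right (0 : F) (Pi.single i 1) (0 : Fin b → F)
  rw [zero_smul, zero_mul] at this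
  exact this

/-- MEET: for `g ∈ M \ K0`, `S = g (A ⊗ w₀)`: every pure tensor `u ⊗ w` in `S^⊥` lies in `S`. -/
theorem meet_of_stabB [Fintype F] (p : ℕ) [Fact p.Prime] [CharP F p] (C : Ctx a b F) (ha : 1 ≤ a)
    (hab : a < b) (hb : 3 ≤ b) (M : Subgroup (Matrix.GeneralLinearGroup (Fin a × Fin b) F))
    (hT : C.T1 ≤ M) (hG : M ≤ C.G) (hS : StabB M)
    (g : Matrix.GeneralLinearGroup (Fin a × Fin b) F) (hg : g ∈ M) (hgK : g ∉ K0 a b F)
    (w₀ : Fin b → F) (hw₀ : w₀ ≠ 0) (w : Fin b → F) (hw : w ≠ 0) (u : Fin a → F)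
    (hv : ctr (C.fl₂ w₀) (((g⁻¹ : Matrix.GeneralLinearGroup (Fin a × Fin b) F) :
      Matrix (Fin a × Fin b) (Fin a × Fin b) F) *ᵥ ten u w) = 0) :
    ∃ u₀ : Fin a → F,
      ten u w = (g : Matrix (Fin a × Fin b) (Fin a × Fin b) F) *ᵥ ten u₀ w₀ := by
  have hxM : ∀ w : Fin b → F,
      EL (1 : Matrix (Fin a) (Fin a) F) w (C.fl₂ w) (C.fl₂_self w) ∈ M := by
    intro w
    rw [← topgrp_tvB_one]
    exact hT (C.tvB_mem_T1 w 1)
  refine tomeet_core p ha hab hb M g hg hgK w₀ (C.fl₂ w₀) hw₀ (topgrp_fl₂_ne_zero C w₀ hw₀)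
    (C.fl₂_self w₀) (hxM w₀)
    (fun Q hQM hQ w ψ hw hψ hψw hx => topgrp_core p ha hab M hS Q hQM hQ w ψ hw hψ hψw hx)
    ?_ w (C.fl₂ w) hw (topgrp_fl₂_ne_zero C w hw) (C.fl₂_self w) (hxM w) u hv
  intro ψ hψ hkill
  obtain ⟨w₂, rfl⟩ := tomeet_fl₂_surj C ψ
  have hw₂ : w₂ ≠ 0 := by
    rintro rfl
    exact hψ (tomeet_fl₂_zero C)
  exact ns_of_stabB C ha hab M hT hG hS g hg w₀ w₂ hw₀ hw₂ hkill

end Cfsg.Agent.Lib.helper7.TO
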