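import Cfsg.Agent.Lib.helper7.TO.PGRP

/-!
# Project TO (S5704), piece NS (helper7): `ns_of_stabB`

If `S = g (A ⊗ w₀)` is perpendicular to a `B`-line `A ⊗ w₂` then `g ∈ K0`: the conjugate
`y = g (1 ⊗ τ_{w₀}) g⁻¹` fixes `S^⊥ ⊇ A ⊗ w₂` pointwise, so `y ∈ K0` (STAB), so `S` is a `B`-line (C1), so
`g ∈ K0` (STAB).
-/

set_option autoImplicit false
set_option linter.unusedVariables false

namespace Cfsg.Agent.Lib.helper7.TO

open Matrix
open scoped Kronecker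
open Cfsg.Agent.Lib.helper7.TP

variable {a b : ℕ} {F : Type*} [Field F]

/-- facts on the conjugate `t = v x v⁻¹` of `x = EL 1 w ψ`. -/
theorem tons_conj (v : Matrix.GeneralLinearGroup (Fin a × Fin b) F) (w ψ : Fin b → F)
    (hw : w ≠ 0) (hψ : ψ ≠ 0) (hψw : ψ ⬝ᵥ w = 0) :
    (((v * EL (1 : Matrix (Fin a) (Fin a) F) w ψ hψw * v⁻¹ :
      Matrix.GeneralLinearGroup (Fin a × Fin b) F) :
      Matrix (Fin a × Fin b) (Fin a × Fin b) F) - 1 =
      (v : Matrix (Fin a × Fin b) (Fin a × Fin b) F) *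
        (ELm (1 : Matrix (Fin a) (Fin a) F) w ψ - 1) *
        ((v⁻¹ : Matrix.GeneralLinearGroup (Fin a × Fin b) F) :
          Matrix (Fin a × Fin b) (Fin a × Fin b) F)) ∧
    ((((v * EL (1 : Matrix (Fin a) (Fin a) F) w ψ hψw * v⁻¹ :
      Matrix.GeneralLinearGroup (Fin a × Fin b) F) :
      Matrix (Fin a × Fin b) (Fin a × Fin b) F) - 1) *
      (((v * EL (1 : Matrix (Fin a) (Fin a) F) w ψ hψw * v⁻¹ :
      Matrix.GeneralLinearGroup (Fin a × Fin b) F) :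
      Matrix (Fin a × Fin b) (Fin a × Fin b) F) - 1) = 0) ∧
    ((((v * EL (1 : Matrix (Fin a) (Fin a) F) w ψ hψw * v⁻¹ :
      Matrix.GeneralLinearGroup (Fin a × Fin b) F) :
      Matrix (Fin a × Fin b) (Fin a × Fin b) F) - 1).rank = a) := by
  classical
  set x : Matrix.GeneralLinearGroup (Fin a × Fin b) F := EL (1 : Matrix (Fin a) (Fin a) F) w ψ hψw
    with hxdef
  have hvv : (v : Matrix (Fin a × Fin b) (Fin a × Fin b) F) *
      ((v⁻¹ : Matrix.GeneralLinearGroup (Fin a × Fin b) F) :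
        Matrix (Fin a × Fin b) (Fin a × Fin b) F) = 1 := by
    rw [← Units.val_mul, mul_inv_cancel, Units.val_one]
  have hvv' : ((v⁻¹ : Matrix.GeneralLinearGroup (Fin a × Fin b) F) :
        Matrix (Fin a × Fin b) (Fin a × Fin b) F) *
      (v : Matrix (Fin a × Fin b) (Fin a × Fin b) F) = 1 := by
    rw [← Units.val_mul, inv_mul_cancel, Units.val_one]
  have ht1 : ((v * x * v⁻¹ : Matrix.GeneralLinearGroup (Fin a × Fin b) F) :
      Matrix (Fin a × Fin b) (Fin a × Fin b) F) - 1 =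
      (v : Matrix (Fin a × Fin b) (Fin a × Fin b) F) *
        (ELm (1 : Matrix (Fin a) (Fin a) F) w ψ - 1) *
        ((v⁻¹ : Matrix.GeneralLinearGroup (Fin a × Fin b) F) :
          Matrix (Fin a × Fin b) (Fin a × Fin b) F) := by
    rw [Units.val_mul, Units.val_mul, hxdef, EL_coe, mul_sub, sub_mul, mul_one, hvv]
  refine ⟨ht1, ?_, ?_⟩
  · rw [ht1]
    calc (v : Matrix (Fin a × Fin b) (Fin a × Fin b) F) *
          (ELm (1 : Matrix (Fin a) (Fin a) F) w ψ - 1) *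
          ((v⁻¹ : Matrix.GeneralLinearGroup (Fin a × Fin b) F) :
            Matrix (Fin a × Fin b) (Fin a × Fin b) F) *
          ((v : Matrix (Fin a × Fin b) (Fin a × Fin b) F) *
          (ELm (1 : Matrix (Fin a) (Fin a) F) w ψ - 1) *
          ((v⁻¹ : Matrix.GeneralLinearGroup (Fin a × Fin b) F) :
            Matrix (Fin a × Fin b) (Fin a × Fin b) F))
        = (v : Matrix (Fin a × Fin b) (Fin a × Fin b) F) *
          ((ELm (1 : Matrix (Fin a) (Fin a) F) w ψ - 1) *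
          (((v⁻¹ : Matrix.GeneralLinearGroup (Fin a × Fin b) F) :
            Matrix (Fin a × Fin b) (Fin a × Fin b) F) *
          (v : Matrix (Fin a × Fin b) (Fin a × Fin b) F)) *
          (ELm (1 : Matrix (Fin a) (Fin a) F) w ψ - 1)) *
          ((v⁻¹ : Matrix.GeneralLinearGroup (Fin a × Fin b) F) :
            Matrix (Fin a × Fin b) (Fin a × Fin b) F) := by
          simp only [mul_assoc]
      _ = 0 := by
          rw [hvv', mul_one, tppgrp_sub_one_sq w ψ hψw, mul_zero, zero_mul]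
  · have hdetv : IsUnit (v : Matrix (Fin a × Fin b) (Fin a × Fin b) F).det :=
      (Matrix.isUnit_iff_isUnit_det _).mp (Units.isUnit v)
    have hdetvi : IsUnit ((v⁻¹ : Matrix.GeneralLinearGroup (Fin a × Fin b) F) :
        Matrix (Fin a × Fin b) (Fin a × Fin b) F).det :=
      (Matrix.isUnit_iff_isUnit_det _).mp (Units.isUnit v⁻¹)
    rw [ht1, Matrix.rank_mul_eq_left_of_isUnit_det _ _ hdetvi,
      Matrix.rank_mul_eq_right_of_isUnit_det _ _ hdetv, tppgrp_rank w ψ hw hψ]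

/-- `(t - 1) z = v ((ctr ψ (v⁻¹ z)) ⊗ w)` for `t = v (EL 1 w ψ) v⁻¹`. -/
theorem tons_conj_mulVec (v : Matrix.GeneralLinearGroup (Fin a × Fin b) F) (w ψ : Fin b → F)
    (hψw : ψ ⬝ᵥ w = 0) (z : Fin a × Fin b → F) :
    (((v * EL (1 : Matrix (Fin a) (Fin a) F) w ψ hψw * v⁻¹ :
      Matrix.GeneralLinearGroup (Fin a × Fin b) F) :
      Matrix (Fin a × Fin b) (Fin a × Fin b) F) - 1) *ᵥ z =
      (v : Matrix (Fin a × Fin b) (Fin a × Fin b) F) *ᵥ
        ten (ctr ψ (((v⁻¹ : Matrix.GeneralLinearGroup (Fin a × Fin b) F) :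
          Matrix (Fin a × Fin b) (Fin a × Fin b) F) *ᵥ z)) w := by
  have hvv : (v : Matrix (Fin a × Fin b) (Fin a × Fin b) F) *
      ((v⁻¹ : Matrix.GeneralLinearGroup (Fin a × Fin b) F) :
        Matrix (Fin a × Fin b) (Fin a × Fin b) F) = 1 := by
    rw [← Units.val_mul, mul_inv_cancel, Units.val_one]
  have ht1 : ((v * EL (1 : Matrix (Fin a) (Fin a) F) w ψ hψw * v⁻¹ :
      Matrix.GeneralLinearGroup (Fin a × Fin b) F) :
      Matrix (Fin a × Fin b) (Fin a × Fin b) F) - 1 =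
      (v : Matrix (Fin a × Fin b) (Fin a × Fin b) F) *
        (ELm (1 : Matrix (Fin a) (Fin a) F) w ψ - 1) *
        ((v⁻¹ : Matrix.GeneralLinearGroup (Fin a × Fin b) F) :
          Matrix (Fin a × Fin b) (Fin a × Fin b) F) := by
    rw [Units.val_mul, Units.val_mul, EL_coe, mul_sub, sub_mul, mul_one, hvv]
  rw [ht1, ← Matrix.mulVec_mulVec, ← Matrix.mulVec_mulVec, tppgrp_sub_one_mulVec]

/-- NS: if `g (A ⊗ w₀) ⊥ A ⊗ w₂` for some `w₂ ≠ 0` then `g ∈ K0`. -/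
theorem ns_of_stabB (C : Ctx a b F) (ha : 1 ≤ a) (hab : a < b)
    (M : Subgroup (Matrix.GeneralLinearGroup (Fin a × Fin b) F)) (hT : C.T1 ≤ M) (hG : M ≤ C.G)
    (hS : StabB M) (g : Matrix.GeneralLinearGroup (Fin a × Fin b) F) (hg : g ∈ M)
    (w₀ w₂ : Fin b → F) (hw₀ : w₀ ≠ 0) (hw₂ : w₂ ≠ 0)
    (h : ∀ x : Fin a → F,
      ctr (C.fl₂ w₂) ((g : Matrix (Fin a × Fin b) (Fin a × Fin b) F) *ᵥ ten x w₀) = 0) :
    g ∈ K0 a b F := by
  classical
  have hψ₀ : C.fl₂ w₀ ≠ 0 := topgrp_fl₂_ne_zero C w₀ hw₀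
  have hxM : EL (1 : Matrix (Fin a) (Fin a) F) w₀ (C.fl₂ w₀) (C.fl₂_self w₀) ∈ M := by
    rw [← topgrp_tvB_one]
    exact hT (C.tvB_mem_T1 w₀ 1)
  have hyM : g * EL (1 : Matrix (Fin a) (Fin a) F) w₀ (C.fl₂ w₀) (C.fl₂_self w₀) * g⁻¹ ∈ M :=
    M.mul_mem (M.mul_mem hg hxM) (M.inv_mem hg)
  obtain ⟨ht1, hsq, hrk⟩ := tons_conj g w₀ (C.fl₂ w₀) hw₀ hψ₀ (C.fl₂_self w₀)
  -- `y` fixes `A ⊗ w₂` pointwise
  have hfix : ∀ u : Fin a → F,
      ((g * EL (1 : Matrix (Fin a) (Fin a) F) w₀ (C.fl₂ w₀) (C.fl₂_self w₀) * g⁻¹ :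
        Matrix.GeneralLinearGroup (Fin a × Fin b) F) :
        Matrix (Fin a × Fin b) (Fin a × Fin b) F) *ᵥ ten u w₂ = ten u w₂ := by
    intro u
    have h0 : ctr (C.fl₂ w₀) (((g⁻¹ : Matrix.GeneralLinearGroup (Fin a × Fin b) F) :
        Matrix (Fin a × Fin b) (Fin a × Fin b) F) *ᵥ ten u w₂) = 0 := by
      apply (C.perp_Bline_iff _ w₀).mp
      intro x'
      rw [C.G_f_inv (hG hg), C.f_symm]
      exact (C.perp_Bline_iff _ w₂).mpr (h x') u
    have h1 := tons_conj_mulVec g w₀ (C.fl₂ w₀) (C.fl₂_self w₀) (ten u w₂)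
    rw [h0, ten_zero_left, Matrix.mulVec_zero, Matrix.sub_mulVec, Matrix.one_mulVec,
      sub_eq_zero] at h1
    exact h1
  have hyK : g * EL (1 : Matrix (Fin a) (Fin a) F) w₀ (C.fl₂ w₀) (C.fl₂_self w₀) * g⁻¹ ∈
      K0 a b F := by
    apply hS _ hyM w₂ w₂ hw₂ hw₂
    intro u
    exact ⟨u, hfix u⟩
  obtain ⟨w', hw', hiff⟩ := sqzero_kron ha hab _ hyK hsq hrk
  obtain ⟨w₃, hw₃⟩ := tppgrp_dual (C.fl₂ w₀) hψ₀
  apply hS g hg w₀ w' hw₀ hw'
  intro u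
  have hmem : (g : Matrix (Fin a × Fin b) (Fin a × Fin b) F) *ᵥ ten u w₀ ∈
      Bline (a := a) w' := by
    apply (hiff _).mp
    refine ⟨(g : Matrix (Fin a × Fin b) (Fin a × Fin b) F) *ᵥ ten u w₃, ?_⟩
    rw [tons_conj_mulVec, Ctx.inv_mulVec_mulVec, ctr_ten, hw₃, one_smul]
  exact (mem_Bline w' _).mp hmem

end Cfsg.Agent.Lib.helper7.TO
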