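import Cfsg.Agent.Lib.helper7.TO.MEET
import Cfsg.Agent.Lib.Helper11.TOUNIPA
import Cfsg.Agent.Lib.Helper1.TONTSA
import Cfsg.Agent.Lib.Helper9.TOSTABA2
import Cfsg.Agent.Lib.Helper22.TOSTABA4
import Cfsg.Agent.Lib.Helper24.TONTSB
import Cfsg.Agent.Lib.helper15.TOSTABB
import Cfsg.Agent.Lib.helper3.TOFIN

/-!
# Project TO (S5704), piece NTW (helper7): `le_K0_of_noSgA`, the world without Siegel elements.

UNIPA → (`a = 2`: STABA2 | `a ≥ 3`: NTSA → STABA4) → NTSB → STABB → MEET for `g⁻¹` → FIN applied to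
`s = g (u ⊗ w)`.
-/

set_option autoImplicit false
set_option linter.unusedVariables false

namespace Cfsg.Agent.Lib.helper7.TO

open Matrix
open scoped Kronecker
open Cfsg.Agent.Lib.helper7.TP

variable {a b : ℕ} {F : Type*} [Field F]

/-- NTW: the world without Siegel elements. -/
theorem le_K0_of_noSgA [Fintype F] (C : Ctx a b F) (ha : 2 ≤ a) (hab : a < b) (hb : 6 ≤ b)
    (hex : ¬ (a = 2 ∧ Fintype.card F = 2))
    (M : Subgroup (Matrix.GeneralLinearGroup (Fin a × Fin b) F)) (hT : C.T1 ≤ M) (hG : M ≤ C.G)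
    (hno : ¬ C.SgA M) : M ≤ K0 a b F := by
  classical
  obtain ⟨p, hp⟩ := CharP.exists F
  haveI : CharP F p := hp
  haveI : Fact p.Prime := ⟨(CharP.char_is_prime_or_zero F p).resolve_right
    (fun h0 => by
      subst h0
      haveI : CharZero F := CharP.charP_to_charZero F
      exact not_finite F)⟩
  have hU : C.UnipA M := unipA_of_noSgA C M hT hG hno
  have hSA : StabA M := by
    rcases Nat.lt_or_ge 2 a with h3 | h2
    · exact stabA_of_ntsA C h3 hb M hT hG (ntsA_of_unipA C hb M hT hG hU)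
    · obtain rfl : a = 2 := by omega
      exact stabA_two C (by omega) M hT hG hU
  have hNB : C.NtsB M := ntsB_of_stabA C ha (by omega) hex M hT hG hSA
  have hSB : StabB M := stabB_of_ntsB C ha (by omega) hex M hT hG hNB
  intro g hg
  by_contra hgK
  have hgi : g⁻¹ ∈ M := M.inv_mem hg
  have hgiK : g⁻¹ ∉ K0 a b F := fun h => hgK (by simpa using (K0 a b F).inv_mem h)
  -- a non-zero pure tensor
  let w : Fin b → F := Pi.single ⟨0, by omega⟩ 1
  let u : Fin a → F := Pi.single ⟨0, by omega⟩ 1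
  have hw : w ≠ 0 := by
    intro h
    have := congrFun h ⟨0, by omega⟩
    simp [w] at this
  have hu : u ≠ 0 := by
    intro h
    have := congrFun h ⟨0, by omega⟩
    simp [u] at this
  have hs : (g : Matrix (Fin a × Fin b) (Fin a × Fin b) F) *ᵥ ten u w = 0 := by
    apply fin_lin C hab (by omega)
    intro w₀ hw₀ hctr
    have hv : ctr (C.fl₂ w₀) ((((g⁻¹)⁻¹ : Matrix.GeneralLinearGroup (Fin a × Fin b) F) :
        Matrix (Fin a × Fin b) (Fin a × Fin b) F) *ᵥ ten u w) = 0 := by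
      rw [inv_inv]
      exact hctr
    obtain ⟨u₀, hu₀⟩ := meet_of_stabB p C (by omega) hab (by omega) M hT hG hSB g⁻¹ hgi hgiK
      w₀ hw₀ w hw u hv
    rw [hu₀, Ctx.mulVec_inv_mulVec]
    exact (mem_Bline w₀ _).mpr ⟨u₀, rfl⟩
  have h0 : ten u w = 0 := by
    have := congrArg (fun v => ((g⁻¹ : Matrix.GeneralLinearGroup (Fin a × Fin b) F) :
        Matrix (Fin a × Fin b) (Fin a × Fin b) F) *ᵥ v) hs
    simp only [Ctx.inv_mulVec_mulVec, Matrix.mulVec_zero] at this
    exact this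
  rcases ten_eq_zero h0 with h | h
  · exact hu h
  · exact hw h

end Cfsg.Agent.Lib.helper7.TO
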