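import Cfsg.Agent.Lib.helper7.TO.Basic
import Cfsg.Agent.Lib.Helper27.TPPGRPcore
import Cfsg.Agent.Lib.Helper21.TPC1

/-!
# Project TO (S5704), piece PGRP (helper7): `pgroup_le`

Port of `Helper27.TPPGRPcore.tppgrp_core` : a `p`-subgroup `Q` of `M` containing the `B`-transvection
`1 ⊗ τ_w(1)` lies in `K0` (normaliser condition in the nilpotent group `Q`, C1 = `sqzero_kron`, STAB).
-/

set_option autoImplicit false
set_option linter.unusedVariables false

namespace Cfsg.Agent.Lib.helper7.TO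

open Matrix
open scoped Kronecker
open Cfsg.Agent.Lib.helper7.TP

variable {a b : ℕ} {F : Type*} [Field F]

/-- `fl₂ w ≠ 0` for `w ≠ 0`. -/
theorem topgrp_fl₂_ne_zero (C : Ctx a b F) (w : Fin b → F) (hw : w ≠ 0) : C.fl₂ w ≠ 0 := by
  intro h
  obtain ⟨⟨y, hy⟩, _⟩ := C.hf₂.nondegenerate w hw
  apply hy
  have := C.fl₂_dot w y
  rw [h, zero_dotProduct] at this
  exact this.symm

/-- `tvB w 1` is the `TP` element `EL 1 w (fl₂ w)`. -/
theorem topgrp_tvB_one (C : Ctx a b F) (w : Fin b → F) :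
    C.tvB w 1 = EL (1 : Matrix (Fin a) (Fin a) F) w (C.fl₂ w) (C.fl₂_self w) := by
  apply Units.ext
  rw [Ctx.tvB, EL_coe, EL_coe, one_smul]

/-- PGRP in the `EL` form. -/
theorem topgrp_core [Fintype F] (p : ℕ) [Fact p.Prime] [CharP F p] (ha : 1 ≤ a) (hab : a < b)
    (M : Subgroup (Matrix.GeneralLinearGroup (Fin a × Fin b) F))
    (hS : StabB M)
    (Q : Subgroup (Matrix.GeneralLinearGroup (Fin a × Fin b) F)) (hQM : Q ≤ M) (hQ : IsPGroup p Q)
    (w ψ : Fin b → F) (hw : w ≠ 0) (hψ : ψ ≠ 0) (hψw : ψ ⬝ᵥ w = 0)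
    (hx : EL (1 : Matrix (Fin a) (Fin a) F) w ψ hψw ∈ Q) : Q ≤ K0 a b F := by
  classical
  by_contra hcon
  have : Group.IsNilpotent Q := hQ.isNilpotent
  have hnc : NormalizerCondition Q := Group.normalizerCondition_of_isNilpotent
  set H : Subgroup Q := (K0 a b F).subgroupOf Q with hH
  have hHlt : H < ⊤ := by
    rw [lt_top_iff_ne_top]
    intro htop
    apply hcon
    intro y hy
    have : (⟨y, hy⟩ : Q) ∈ H := by rw [htop]; exact Subgroup.mem_top _
    exact Subgroup.mem_subgroupOf.mp this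
  obtain ⟨hle, hnle⟩ := (hnc H hHlt)
  obtain ⟨v', hv'N, hv'H⟩ := SetLike.not_le_iff_exists.mp hnle
  have hvK : (v' : Matrix.GeneralLinearGroup (Fin a × Fin b) F) ∉ K0 a b F := fun h =>
    hv'H (Subgroup.mem_subgroupOf.mpr h)
  set v : Matrix.GeneralLinearGroup (Fin a × Fin b) F := v'.1 with hv
  set x : Matrix.GeneralLinearGroup (Fin a × Fin b) F := EL (1 : Matrix (Fin a) (Fin a) F) w ψ hψw
    with hxdef
  have hxH : (⟨x, hx⟩ : Q) ∈ H := Subgroup.mem_subgroupOf.mpr (tppgrp_EL_mem_K0 w ψ hψw)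
  have htH := (Subgroup.mem_normalizer_iff.mp hv'N ⟨x, hx⟩).mp hxH
  have htK : v * x * v⁻¹ ∈ K0 a b F := Subgroup.mem_subgroupOf.mp htH
  have hvv : (v : Matrix (Fin a × Fin b) (Fin a × Fin b) F) *
      ((v⁻¹ : Matrix.GeneralLinearGroup (Fin a × Fin b) F) :
        Matrix (Fin a × Fin b) (Fin a × Fin b) F) = 1 := by
    rw [← Units.val_mul, mul_inv_cancel, Units.val_one]
  have hvv' : ((v⁻¹ : Matrix.GeneralLinearGroup (Fin a × Fin b) F) :
        Matrix (Fin a × Fin b) (Fin a × Fin b) F) *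
      (v : Matrix (Fin a × Fin b) (Fin a × Fin b) F) = 1 := by
    rw [← Units.val_mul, inv_mul_cancel, Units.val_one]
  have ht1 : ((v * x * v⁻¹ : Matrix.GeneralLinearGroup (Fin a × Fin b) F) :
      Matrix (Fin a × Fin b) (Fin a × Fin b) F) - 1 =
      (v : Matrix (Fin a × Fin b) (Fin a × Fin b) F) *
        (ELm (1 : Matrix (Fin a) (Fin a) F) w ψ - 1) *
        ((v⁻¹ : Matrix.GeneralLinearGroup (Fin a × Fin b) F) :
          Matrix (Fin a × Fin b) (Fin a × Fin b) F) := by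
    rw [Units.val_mul, Units.val_mul, hxdef, EL_coe, mul_sub, sub_mul, mul_one, hvv]
  have hsq : (((v * x * v⁻¹ : Matrix.GeneralLinearGroup (Fin a × Fin b) F) :
      Matrix (Fin a × Fin b) (Fin a × Fin b) F) - 1) *
      (((v * x * v⁻¹ : Matrix.GeneralLinearGroup (Fin a × Fin b) F) :
      Matrix (Fin a × Fin b) (Fin a × Fin b) F) - 1) = 0 := by
    rw [ht1]
    calc (v : Matrix (Fin a × Fin b) (Fin a × Fin b) F) *
          (ELm (1 : Matrix (Fin a) (Fin a) F) w ψ - 1) *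
          ((v⁻¹ : Matrix.GeneralLinearGroup (Fin a × Fin b) F) :
            Matrix (Fin a × Fin b) (Fin a × Fin b) F) *
          ((v : Matrix (Fin a × Fin b) (Fin a × Fin b) F) *
          (ELm (1 : Matrix (Fin a) (Fin a) F) w ψ - 1) *
          ((v⁻¹ : Matrix.GeneralLinearGroup (Fin a × Fin b) F) :
            Matrix (Fin a × Fin b) (Fin a × Fin b) F))
        = (v : Matrix (Fin a × Fin b) (Fin a × Fin b) F) *
          ((ELm (1 : Matrix (Fin a) (Fin a) F) w ψ - 1) *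
          (((v⁻¹ : Matrix.GeneralLinearGroup (Fin a × Fin b) F) :
            Matrix (Fin a × Fin b) (Fin a × Fin b) F) *
          (v : Matrix (Fin a × Fin b) (Fin a × Fin b) F)) *
          (ELm (1 : Matrix (Fin a) (Fin a) F) w ψ - 1)) *
          ((v⁻¹ : Matrix.GeneralLinearGroup (Fin a × Fin b) F) :
            Matrix (Fin a × Fin b) (Fin a × Fin b) F) := by
          simp only [mul_assoc]
      _ = 0 := by
          rw [hvv', mul_one, tppgrp_sub_one_sq w ψ hψw, mul_zero, zero_mul]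
  have hdetv : IsUnit (v : Matrix (Fin a × Fin b) (Fin a × Fin b) F).det :=
    (Matrix.isUnit_iff_isUnit_det _).mp (Units.isUnit v)
  have hdetvi : IsUnit ((v⁻¹ : Matrix.GeneralLinearGroup (Fin a × Fin b) F) :
      Matrix (Fin a × Fin b) (Fin a × Fin b) F).det :=
    (Matrix.isUnit_iff_isUnit_det _).mp (Units.isUnit v⁻¹)
  have hrk : (((v * x * v⁻¹ : Matrix.GeneralLinearGroup (Fin a × Fin b) F) :
      Matrix (Fin a × Fin b) (Fin a × Fin b) F) - 1).rank = a := by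
    rw [ht1, Matrix.rank_mul_eq_left_of_isUnit_det _ _ hdetvi,
      Matrix.rank_mul_eq_right_of_isUnit_det _ _ hdetv, tppgrp_rank w ψ hw hψ]
  obtain ⟨w', hw', hiff⟩ := sqzero_kron ha hab (v * x * v⁻¹) htK hsq hrk
  obtain ⟨w₂, hw₂⟩ := tppgrp_dual ψ hψ
  apply hvK
  apply hS v (hQM v'.2) w w' hw hw'
  intro u
  have hmem : (v : Matrix (Fin a × Fin b) (Fin a × Fin b) F) *ᵥ ten u w ∈ Bline (a := a) w' := by
    apply (hiff _).mp
    refine ⟨(v : Matrix (Fin a × Fin b) (Fin a × Fin b) F) *ᵥ ten u w₂, ?_⟩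
    rw [ht1, Matrix.mulVec_mulVec, Matrix.mul_assoc, hvv', Matrix.mul_one, ← Matrix.mulVec_mulVec,
      tppgrp_sub_one_mulVec, ctr_ten, hw₂, one_smul]
  exact (mem_Bline w' _).mp hmem

/-- PGRP: a `p`-subgroup of `M` containing a `B`-transvection lies in `K0`. -/
theorem pgroup_le [Fintype F] (p : ℕ) [Fact p.Prime] [CharP F p] (C : Ctx a b F) (ha : 1 ≤ a)
    (hab : a < b) (M : Subgroup (Matrix.GeneralLinearGroup (Fin a × Fin b) F))
    (hS : StabB M) (Q : Subgroup (Matrix.GeneralLinearGroup (Fin a × Fin b) F)) (hQM : Q ≤ M)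
    (hQ : IsPGroup p Q) (w : Fin b → F) (hw : w ≠ 0) (hx : C.tvB w 1 ∈ Q) : Q ≤ K0 a b F := by
  rw [topgrp_tvB_one] at hx
  exact topgrp_core p ha hab M hS Q hQM hQ w (C.fl₂ w) hw (topgrp_fl₂_ne_zero C w hw)
    (C.fl₂_self w) hx

end Cfsg.Agent.Lib.helper7.TO
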