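import Cfsg.Agent.Lib.helper7.TO.TVMEMB

/-!
# Project TO (S5704), piece TVMEM, `A`-half (helper7): `τ_u(c) ⊗ 1 ∈ Ω`, and `T1 ≤ Ω` as `totvmem7_T1_le_omega`.

Mirror of `TVMEMB`.
-/

set_option autoImplicit false
set_option linter.unusedVariables false

namespace Cfsg.Agent.Lib.helper7.TO

open Matrix
open scoped Kronecker
open Cfsg.Agent.Lib.helper7.TP

variable {a b : ℕ} {F : Type*} [Field F]

/-- the elementary matrix `s ↦ c (f₂(s,w) w' - f₂(s,w') w)`. -/
def totvmem7_elB (C : Ctx a b F) (w w' : Fin b → F) (c : F) : Matrix (Fin b) (Fin b) F :=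
  c • (Matrix.vecMulVec w' (C.fl₂ w) - Matrix.vecMulVec w (C.fl₂ w'))

theorem totvmem7_elB_mulVec (C : Ctx a b F) (w w' : Fin b → F) (c : F) (s : Fin b → F) :
    totvmem7_elB C w w' c *ᵥ s = c • (C.f₂ s w • w' - C.f₂ s w' • w) := by
  rw [totvmem7_elB, Matrix.smul_mulVec, Matrix.sub_mulVec, Matrix.vecMulVec_mulVec,
    Matrix.vecMulVec_mulVec, C.fl₂_dot, C.fl₂_dot]
  congr 1
  funext i
  simp only [Pi.sub_apply, Pi.smul_apply, smul_eq_mul, MulOpposite.smul_eq_mul_unop,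
    MulOpposite.unop_op]
  ring

/-- `1 + u u* ⊗ elB` is the Siegel element `S(u ⊗ w, u ⊗ w'; c)`. -/
theorem totvmem7_elB_sg (C : Ctx a b F) (w w' : Fin b → F) (c : F) (u : Fin a → F) :
    C.IsSgV (ER (totvmem7_elB C w w' c) u (C.fl₁ u) (C.fl₁_self u)) (ten u w) (ten u w') c := by
  intro x
  rw [ER_coe, ERm_mulVec, totvmem7_elB_mulVec, Ctx.sgv, C.f_symm (ten u w) x, C.f_symm (ten u w') x,
    C.f_ten_right_A, C.f_ten_right_A]
  congr 1
  rw [ten_smul_right, ten_sub_right, ten_smul_right, ten_smul_right]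

theorem totvmem7_elB_mem [Fintype F] (C : Ctx a b F) (hab : 7 ≤ a * b) (w w' : Fin b → F) (c : F)
    (u : Fin a → F) :
    ER (totvmem7_elB C w w' c) u (C.fl₁ u) (C.fl₁_self u) ∈ Cfsg.Geo.omegaGL C.q := by
  apply sg_mem_omega C hab _ (ten u w) (ten u w') c (C.q_ten u w) (C.q_ten u w') _
    (totvmem7_elB_sg C w w' c u)
  rw [C.f_ten, C.hf₁.alternating, zero_mul]

theorem totvmem7_ER_add (η η' : Matrix (Fin b) (Fin b) F) (u φ : Fin a → F) (h : φ ⬝ᵥ u = 0) :
    ER (η + η') u φ h = ER η u φ h * ER η' u φ h := by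
  apply Units.ext
  rw [Units.val_mul, ER_coe, ER_coe, ER_coe, ERm_mul_ERm _ _ _ _ h]

theorem totvmem7_ER_zero (u φ : Fin a → F) (h : φ ⬝ᵥ u = 0) :
    ER (0 : Matrix (Fin b) (Fin b) F) u φ h = 1 := by
  apply Units.ext
  rw [ER_coe, ERm_zero, Units.val_one]

theorem totvmem7_sum_memA (S : Subgroup (Matrix.GeneralLinearGroup (Fin a × Fin b) F))
    (u φ : Fin a → F) (h : φ ⬝ᵥ u = 0) {ι : Type*} (s : Finset ι)
    (η : ι → Matrix (Fin b) (Fin b) F) (hη : ∀ i ∈ s, ER (η i) u φ h ∈ S) :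
    ER (∑ i ∈ s, η i) u φ h ∈ S := by
  classical
  induction s using Finset.induction_on with
  | empty =>
    rw [Finset.sum_empty, totvmem7_ER_zero]
    exact S.one_mem
  | insert i s hi ih =>
    rw [Finset.sum_insert hi, totvmem7_ER_add]
    exact S.mul_mem (hη i (Finset.mem_insert_self i s))
      (ih (fun j hj => hη j (Finset.mem_insert_of_mem hj)))

/-- `1 = Σ_{i,j} H_{ji} e_i e_j*` on the `B`-side. -/
theorem totvmem7_dec1B (C : Ctx a b F) :
    (1 : Matrix (Fin b) (Fin b) F) = ∑ i : Fin b, ∑ j : Fin b,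
      (Cfsg.Geo.gramMatrix C.f₂)⁻¹ j i •
        Matrix.vecMulVec (Pi.single i (1 : F)) (C.fl₂ (Pi.single j 1)) := by
  classical
  ext k l
  rw [Matrix.sum_apply]
  simp only [Matrix.sum_apply, Matrix.smul_apply, Matrix.vecMulVec_apply, smul_eq_mul,
    Pi.single_apply]
  have hfl : ∀ j : Fin b, C.fl₂ (Pi.single j 1) l = Cfsg.Geo.gramMatrix C.f₂ l j := fun j => rfl
  have : ∀ i : Fin b, ∑ j : Fin b, (Cfsg.Geo.gramMatrix C.f₂)⁻¹ j i *
      ((if k = i then (1 : F) else 0) * C.fl₂ (Pi.single j 1) l) =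
      if k = i then ∑ j : Fin b, Cfsg.Geo.gramMatrix C.f₂ l j * (Cfsg.Geo.gramMatrix C.f₂)⁻¹ j i
        else 0 := by
    intro i
    by_cases hki : k = i
    · simp only [if_pos hki]
      apply Finset.sum_congr rfl
      intro j _
      rw [one_mul, hfl, mul_comm]
    · simp only [if_neg hki]
      apply Finset.sum_eq_zero
      intro j _
      rw [zero_mul, mul_zero]
  rw [Finset.sum_congr rfl (fun i _ => this i), Finset.sum_ite_eq Finset.univ k, if_pos (Finset.mem_univ k)]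
  have h2 : (Cfsg.Geo.gramMatrix C.f₂ * (Cfsg.Geo.gramMatrix C.f₂)⁻¹) l k = (1 : Matrix (Fin b) (Fin b) F) l k := by
    rw [Matrix.mul_nonsing_inv _ (gram_isUnit C.hf₂)]
  rw [Matrix.mul_apply] at h2
  rw [h2, Matrix.one_apply, Matrix.one_apply]
  by_cases hkl : k = l
  · rw [if_pos hkl, if_pos hkl.symm]
  · rw [if_neg hkl, if_neg (fun h => hkl h.symm)]

/-- `c • 1 = Σ_{i<j} (elementary matrices)` on the `B`-side. -/
theorem totvmem7_dec2B (C : Ctx a b F) (c : F) :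
    c • (1 : Matrix (Fin b) (Fin b) F) = ∑ i : Fin b, ∑ j : Fin b,
      if i < j then totvmem7_elB C (Pi.single j 1) (Pi.single i 1)
        (c * (Cfsg.Geo.gramMatrix C.f₂)⁻¹ j i) else 0 := by
  classical
  set H := (Cfsg.Geo.gramMatrix C.f₂)⁻¹ with hH
  set T : Fin b → Fin b → Matrix (Fin b) (Fin b) F := fun i j =>
    (c * H j i) • Matrix.vecMulVec (Pi.single i (1 : F)) (C.fl₂ (Pi.single j 1)) with hT
  have h1 : c • (1 : Matrix (Fin b) (Fin b) F) = ∑ i : Fin b, ∑ j : Fin b, T i j := by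
    conv_lhs => rw [totvmem7_dec1B C]
    rw [Finset.smul_sum]
    apply Finset.sum_congr rfl
    intro i _
    rw [Finset.smul_sum]
    apply Finset.sum_congr rfl
    intro j _
    rw [hT, smul_smul]
  have hdiag : ∀ i, T i i = 0 := by
    intro i
    simp only [hT, hH]
    rw [totvmem7_H_diag C.hf₂, mul_zero, zero_smul]
  have h2 : ∀ i j, T i j = (if i < j then T i j else 0) + (if j < i then T i j else 0) := by
    intro i j
    rcases lt_trichotomy i j with h | h | h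
    · rw [if_pos h, if_neg (not_lt_of_gt h), add_zero]
    · subst h
      rw [if_neg (lt_irrefl i), hdiag, add_zero]
    · rw [if_neg (not_lt_of_gt h), if_pos h, zero_add]
  have h3 : ∑ i : Fin b, ∑ j : Fin b, T i j =
      ∑ i : Fin b, ∑ j : Fin b, (if i < j then T i j else 0) +
      ∑ i : Fin b, ∑ j : Fin b, (if j < i then T i j else 0) := by
    rw [← Finset.sum_add_distrib]
    apply Finset.sum_congr rfl
    intro i _
    rw [← Finset.sum_add_distrib]
    apply Finset.sum_congr rfl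
    intro j _
    exact h2 i j
  have h4 : ∑ i : Fin b, ∑ j : Fin b, (if j < i then T i j else 0) =
      ∑ i : Fin b, ∑ j : Fin b, (if i < j then T j i else 0) := Finset.sum_comm
  rw [h1, h3, h4, ← Finset.sum_add_distrib]
  apply Finset.sum_congr rfl
  intro i _
  rw [← Finset.sum_add_distrib]
  apply Finset.sum_congr rfl
  intro j _
  by_cases hij : i < j
  · rw [if_pos hij, if_pos hij, if_pos hij]
    have hskew : H i j = - H j i := totvmem7_H_skew C.hf₂ j i
    simp only [hT, totvmem7_elB]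
    rw [hskew, smul_sub, sub_eq_add_neg, ← neg_smul]
    congr 2
    ring
  · rw [if_neg hij, if_neg hij, if_neg hij, add_zero]

/-- TVMEM, `A`-half: `τ_u(c) ⊗ 1 ∈ Ω`. -/
theorem totvmem7_tvA [Fintype F] (C : Ctx a b F) (hab : 7 ≤ a * b) (u : Fin a → F) (c : F) :
    C.tvA u c ∈ Cfsg.Geo.omegaGL C.q := by
  classical
  have h1 : C.tvA u c = ER (∑ i : Fin b, ∑ j : Fin b,
      if i < j then totvmem7_elB C (Pi.single j 1) (Pi.single i 1)
        (c * (Cfsg.Geo.gramMatrix C.f₂)⁻¹ j i) else 0) u (C.fl₁ u) (C.fl₁_self u) := by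
    apply Units.ext
    rw [Ctx.tvA, ER_coe, ER_coe, totvmem7_dec2B C c]
  rw [h1]
  apply totvmem7_sum_memA
  intro i _
  apply totvmem7_sum_memA
  intro j _
  by_cases hij : i < j
  · rw [if_pos hij]
    exact totvmem7_elB_mem C hab _ _ _ u
  · rw [if_neg hij, totvmem7_ER_zero]
    exact Subgroup.one_mem _

/-- a generator of `TT f₁` is a `tvg`. -/
theorem totvmem7_gen_eq {n : ℕ} {f : (Fin n → F) → (Fin n → F) → F}
    (hf : Cfsg.Geo.IsSymplecticForm f) (g : Matrix.GeneralLinearGroup (Fin n) F) (v : Fin n → F)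
    (c : F) (h : ∀ x, (g : Matrix (Fin n) (Fin n) F) *ᵥ x = x + (c * f x v) • v) :
    g = tvg hf v c := by
  apply Units.ext
  rw [Matrix.ext_iff_mulVec]
  intro x
  rw [h, tvg_coe, tvm_mulVec hf]

/-- TVMEM (second copy): `T1 ≤ Ω`. -/
theorem totvmem7_T1_le_omega [Fintype F] (C : Ctx a b F) (hab : 7 ≤ a * b) :
    C.T1 ≤ Cfsg.Geo.omegaGL C.q := by
  unfold Ctx.T1
  apply sup_le
  · rw [Subgroup.map_le_iff_le_comap]
    unfold Cfsg.Agent.Lib.Helper28.SympAbs.TT
    rw [Subgroup.closure_le]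
    rintro g ⟨v, c, hg⟩
    rw [totvmem7_gen_eq C.hf₁ g v c hg]
    show kA a b F (tvg C.hf₁ v c) ∈ Cfsg.Geo.omegaGL C.q
    rw [← C.tvA_eq_kA]
    exact totvmem7_tvA C hab v c
  · rw [Subgroup.map_le_iff_le_comap]
    unfold Cfsg.Agent.Lib.Helper28.SympAbs.TT
    rw [Subgroup.closure_le]
    rintro g ⟨v, c, hg⟩
    rw [totvmem7_gen_eq C.hf₂ g v c hg]
    show kB a b F (tvg C.hf₂ v c) ∈ Cfsg.Geo.omegaGL C.q
    rw [← C.tvB_eq_kB]
    exact totvmem7_tvB C hab v c

end Cfsg.Agent.Lib.helper7.TO
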