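import Cfsg.Agent.Lib.helper7.TO.NTW
import Cfsg.Agent.Lib.helper7.TO.TVMEMA
import Cfsg.Agent.Lib.helper6.TOSYMP1
import Cfsg.Agent.Lib.Helper18.TOSGALGA
import Cfsg.Agent.Lib.Helper19.TOSGT
import Cfsg.Agent.Lib.Helper11.TOPROPERW
import Cfsg.Agent.Lib.helper2.TOG4

/-!
# Project TO (S5704), piece STD (helper7): `std_max`, maximality of `K0 ⊓ Ω` in `Ω` in the standard model.
-/

set_option autoImplicit false
set_option linter.unusedVariables false

namespace Cfsg.Agent.Lib.helper7.TO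

open Matrix
open scoped Kronecker
open Cfsg.Agent.Lib.helper7.TP

variable {a b : ℕ} {F : Type*} [Field F]

/-- `T1 ≤ K0`. -/
theorem tostd_T1_le_K0 (C : Ctx a b F) : C.T1 ≤ K0 a b F := by
  unfold Ctx.T1
  apply sup_le
  · rintro _ ⟨α, _, rfl⟩
    exact kA_mem_K0 α
  · rintro _ ⟨β, _, rfl⟩
    exact kB_mem_K0 β

/-- STD. -/
theorem std_max [Fintype F] (C : Ctx a b F) (ha : 2 ≤ a) (hab : a < b) (hb : 6 ≤ b)
    (hex : ¬ (a = 2 ∧ Fintype.card F = 2)) :
    Cfsg.Geo.IsMaximalIn (Cfsg.Geo.omegaGL C.q) (K0 a b F ⊓ Cfsg.Geo.omegaGL C.q) := by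
  classical
  have hab7 : 7 ≤ a * b := by nlinarith
  have hT1 : C.T1 ≤ K0 a b F ⊓ Cfsg.Geo.omegaGL C.q :=
    le_inf (tostd_T1_le_K0 C) (totvmem7_T1_le_omega C hab7)
  refine ⟨?_, ?_⟩
  · -- proper
    rw [lt_iff_le_and_ne]
    refine ⟨inf_le_right, ?_⟩
    intro heq
    let w : Fin b → F := Pi.single ⟨0, by omega⟩ 1
    let u : Fin a → F := Pi.single ⟨0, by omega⟩ 1
    have hw : w ≠ 0 := by
      intro h
      have := congrFun h ⟨0, by omega⟩
      simp [w] at this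
    have hu : u ≠ 0 := by
      intro h
      have := congrFun h ⟨0, by omega⟩
      simp [u] at this
    obtain ⟨z, z', hzw, -, hz'w, -, hzz'⟩ := exists_hyp_perp2 C.hf₂ (by omega : 5 ≤ b) w w
    have hwz : C.f₂ w z = 0 := by rw [C.hf₂.skew w z, hzw, neg_zero]
    have hz : ∀ l : F, z ≠ l • w := by
      intro l hl
      have := C.hf₂.bilinear.smul_left l w z'
      rw [← hl, hzz', C.hf₂.skew w z', hz'w, neg_zero, mul_zero] at this
      exact one_ne_zero this
    have hpv : C.f (ten u w) (ten u z) = 0 := by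
      rw [C.f_ten, C.hf₁.alternating, zero_mul]
    obtain ⟨t, htG, ht⟩ := sg_ex C (ten u w) (ten u z) 1 (C.q_ten u w) (C.q_ten u z) hpv
    have htΩ : t ∈ Cfsg.Geo.omegaGL C.q :=
      sg_mem_omega C hab7 t (ten u w) (ten u z) 1 (C.q_ten u w) (C.q_ten u z) hpv ht
    have htK : t ∉ K0 a b F := sgA_not_mem_K0 C t u w z 1 hu one_ne_zero hw hz hwz ht
    rw [← heq] at htΩ
    exact htK htΩ.1
  · intro M hKM hMΩ
    have hT : C.T1 ≤ M := hT1.trans hKM
    have hG : M ≤ C.G := hMΩ.trans C.omega_le_G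
    by_cases h : C.SgA M
    · right
      exact le_antisymm hMΩ (omega_le_of_sgAll C hab7 M (sgAll_of_sgA C ha hb M hT h))
    · left
      exact le_antisymm (le_inf (le_K0_of_noSgA C ha hab hb hex M hT hG h) hMΩ) hKM

end Cfsg.Agent.Lib.helper7.TO
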