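import Cfsg.Agent.Lib.helper7.TO.Basic
import Cfsg.Agent.Lib.Helper19.TOSGT

/-!
# Project TO (S5704), piece TVMEM, `B`-half (helper7): `1 ⊗ τ_w(c) ∈ Ω`

`Λ_w = {ζ | 1 + ζ ⊗ w w* ∈ Ω}` is closed under addition and contains the elementary matrices
`c (u' u* - u u'*)` (Siegel elements `S(u ⊗ w, u' ⊗ w; c)`, in `Ω` by `sg_mem_omega`); and
`1 = Σ_{i<j} H_{ji} (e_i e_j* - e_j e_i*)` for the inverse `H` of the Gram matrix of `f₁`.
-/

set_option autoImplicit false
set_option linter.unusedVariables false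

namespace Cfsg.Agent.Lib.helper7.TO

open Matrix
open scoped Kronecker
open Cfsg.Agent.Lib.helper7.TP

variable {a b : ℕ} {F : Type*} [Field F]

/-- the elementary matrix `s ↦ c (f₁(s,u) u' - f₁(s,u') u)`. -/
def totvmem7_el (C : Ctx a b F) (u u' : Fin a → F) (c : F) : Matrix (Fin a) (Fin a) F :=
  c • (Matrix.vecMulVec u' (C.fl₁ u) - Matrix.vecMulVec u (C.fl₁ u'))

theorem totvmem7_el_mulVec (C : Ctx a b F) (u u' : Fin a → F) (c : F) (s : Fin a → F) :
    totvmem7_el C u u' c *ᵥ s = c • (C.f₁ s u • u' - C.f₁ s u' • u) := by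
  rw [totvmem7_el, Matrix.smul_mulVec, Matrix.sub_mulVec, Matrix.vecMulVec_mulVec,
    Matrix.vecMulVec_mulVec, C.fl₁_dot, C.fl₁_dot]
  congr 1
  funext i
  simp only [Pi.sub_apply, Pi.smul_apply, smul_eq_mul, MulOpposite.smul_eq_mul_unop,
    MulOpposite.unop_op]
  ring

/-- `1 + el ⊗ w w*` is the Siegel element `S(u ⊗ w, u' ⊗ w; c)`. -/
theorem totvmem7_el_sg (C : Ctx a b F) (u u' : Fin a → F) (c : F) (w : Fin b → F) :
    C.IsSgV (EL (totvmem7_el C u u' c) w (C.fl₂ w) (C.fl₂_self w)) (ten u w) (ten u' w) c := by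
  intro x
  rw [EL_coe, ELm_mulVec, totvmem7_el_mulVec, Ctx.sgv, C.f_symm (ten u w) x, C.f_symm (ten u' w) x,
    C.f_ten_right_B, C.f_ten_right_B]
  congr 1
  rw [ten_smul_left, ten_sub_left, ten_smul_left, ten_smul_left]

theorem totvmem7_el_mem [Fintype F] (C : Ctx a b F) (hab : 7 ≤ a * b) (u u' : Fin a → F) (c : F)
    (w : Fin b → F) :
    EL (totvmem7_el C u u' c) w (C.fl₂ w) (C.fl₂_self w) ∈ Cfsg.Geo.omegaGL C.q := by
  apply sg_mem_omega C hab _ (ten u w) (ten u' w) c (C.q_ten u w) (C.q_ten u' w) _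
    (totvmem7_el_sg C u u' c w)
  rw [C.f_ten, C.hf₂.alternating, mul_zero]

theorem totvmem7_EL_add (ζ ζ' : Matrix (Fin a) (Fin a) F) (w ψ : Fin b → F) (h : ψ ⬝ᵥ w = 0) :
    EL (ζ + ζ') w ψ h = EL ζ w ψ h * EL ζ' w ψ h := by
  apply Units.ext
  rw [Units.val_mul, EL_coe, EL_coe, EL_coe, ELm_mul_ELm _ _ _ _ h]

theorem totvmem7_EL_zero (w ψ : Fin b → F) (h : ψ ⬝ᵥ w = 0) :
    EL (0 : Matrix (Fin a) (Fin a) F) w ψ h = 1 := by
  apply Units.ext
  rw [EL_coe, ELm_zero, Units.val_one]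

theorem totvmem7_sum_mem (S : Subgroup (Matrix.GeneralLinearGroup (Fin a × Fin b) F))
    (w ψ : Fin b → F) (h : ψ ⬝ᵥ w = 0) {ι : Type*} (s : Finset ι)
    (ζ : ι → Matrix (Fin a) (Fin a) F) (hζ : ∀ i ∈ s, EL (ζ i) w ψ h ∈ S) :
    EL (∑ i ∈ s, ζ i) w ψ h ∈ S := by
  classical
  induction s using Finset.induction_on with
  | empty =>
    rw [Finset.sum_empty, totvmem7_EL_zero]
    exact S.one_mem
  | insert i s hi ih =>
    rw [Finset.sum_insert hi, totvmem7_EL_add]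
    exact S.mul_mem (hζ i (Finset.mem_insert_self i s))
      (ih (fun j hj => hζ j (Finset.mem_insert_of_mem hj)))

/-- the inverse Gram matrix is skew. -/
theorem totvmem7_H_skew {n : ℕ} {f : (Fin n → F) → (Fin n → F) → F}
    (hf : Cfsg.Geo.IsSymplecticForm f) (i j : Fin n) :
    (Cfsg.Geo.gramMatrix f)⁻¹ j i = - (Cfsg.Geo.gramMatrix f)⁻¹ i j := by
  have hG : (Cfsg.Geo.gramMatrix f).transpose = - Cfsg.Geo.gramMatrix f := by
    ext k l
    simp only [Matrix.transpose_apply, Matrix.neg_apply, Cfsg.Geo.gramMatrix]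
    exact hf.skew _ _
  have h1 : ((Cfsg.Geo.gramMatrix f)⁻¹).transpose = - (Cfsg.Geo.gramMatrix f)⁻¹ := by
    rw [Matrix.transpose_nonsing_inv, hG]
    apply Matrix.inv_eq_right_inv
    rw [neg_mul_neg, Matrix.mul_nonsing_inv _ (gram_isUnit hf)]
  have := congrFun (congrFun h1 i) j
  simpa using this

/-- the inverse Gram matrix has zero diagonal. -/
theorem totvmem7_H_diag {n : ℕ} {f : (Fin n → F) → (Fin n → F) → F}
    (hf : Cfsg.Geo.IsSymplecticForm f) (i : Fin n) :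
    (Cfsg.Geo.gramMatrix f)⁻¹ i i = 0 := by
  classical
  set G := Cfsg.Geo.gramMatrix f with hG
  set y : Fin n → F := G⁻¹ *ᵥ Pi.single i 1 with hy
  have h1 : G *ᵥ y = Pi.single i 1 := by
    rw [hy, Matrix.mulVec_mulVec, Matrix.mul_nonsing_inv _ (gram_isUnit hf), Matrix.one_mulVec]
  have h2 : f y y = 0 := hf.alternating y
  rw [form_gram hf, ← hG, h1, dotProduct_single_one] at h2
  rw [hy, Matrix.mulVec_single_one] at h2
  exact h2

/-- `1 = Σ_{i,j} H_{ji} e_i e_j*`. -/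
theorem totvmem7_dec1 (C : Ctx a b F) :
    (1 : Matrix (Fin a) (Fin a) F) = ∑ i : Fin a, ∑ j : Fin a,
      (Cfsg.Geo.gramMatrix C.f₁)⁻¹ j i •
        Matrix.vecMulVec (Pi.single i (1 : F)) (C.fl₁ (Pi.single j 1)) := by
  classical
  ext k l
  rw [Matrix.sum_apply]
  simp only [Matrix.sum_apply, Matrix.smul_apply, Matrix.vecMulVec_apply, smul_eq_mul,
    Pi.single_apply]
  have hfl : ∀ j : Fin a, C.fl₁ (Pi.single j 1) l = Cfsg.Geo.gramMatrix C.f₁ l j := fun j => rfl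
  have : ∀ i : Fin a, ∑ j : Fin a, (Cfsg.Geo.gramMatrix C.f₁)⁻¹ j i *
      ((if k = i then (1 : F) else 0) * C.fl₁ (Pi.single j 1) l) =
      if k = i then ∑ j : Fin a, Cfsg.Geo.gramMatrix C.f₁ l j * (Cfsg.Geo.gramMatrix C.f₁)⁻¹ j i
        else 0 := by
    intro i
    by_cases hki : k = i
    · simp only [if_pos hki]
      apply Finset.sum_congr rfl
      intro j _
      rw [one_mul, hfl, mul_comm]
    · simp only [if_neg hki]
      apply Finset.sum_eq_zero
      intro j _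
      rw [zero_mul, mul_zero]
  rw [Finset.sum_congr rfl (fun i _ => this i), Finset.sum_ite_eq Finset.univ k, if_pos (Finset.mem_univ k)]
  have h2 : (Cfsg.Geo.gramMatrix C.f₁ * (Cfsg.Geo.gramMatrix C.f₁)⁻¹) l k = (1 : Matrix (Fin a) (Fin a) F) l k := by
    rw [Matrix.mul_nonsing_inv _ (gram_isUnit C.hf₁)]
  rw [Matrix.mul_apply] at h2
  rw [h2, Matrix.one_apply, Matrix.one_apply]
  by_cases hkl : k = l
  · rw [if_pos hkl, if_pos hkl.symm]
  · rw [if_neg hkl, if_neg (fun h => hkl h.symm)]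

/-- `c • 1 = Σ_{i<j} (elementary matrices)`. -/
theorem totvmem7_dec2 (C : Ctx a b F) (c : F) :
    c • (1 : Matrix (Fin a) (Fin a) F) = ∑ i : Fin a, ∑ j : Fin a,
      if i < j then totvmem7_el C (Pi.single j 1) (Pi.single i 1)
        (c * (Cfsg.Geo.gramMatrix C.f₁)⁻¹ j i) else 0 := by
  classical
  set H := (Cfsg.Geo.gramMatrix C.f₁)⁻¹ with hH
  set T : Fin a → Fin a → Matrix (Fin a) (Fin a) F := fun i j =>
    (c * H j i) • Matrix.vecMulVec (Pi.single i (1 : F)) (C.fl₁ (Pi.single j 1)) with hT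
  have h1 : c • (1 : Matrix (Fin a) (Fin a) F) = ∑ i : Fin a, ∑ j : Fin a, T i j := by
    conv_lhs => rw [totvmem7_dec1 C]
    rw [Finset.smul_sum]
    apply Finset.sum_congr rfl
    intro i _
    rw [Finset.smul_sum]
    apply Finset.sum_congr rfl
    intro j _
    rw [hT, smul_smul]
  have hdiag : ∀ i, T i i = 0 := by
    intro i
    simp only [hT, hH]
    rw [totvmem7_H_diag C.hf₁, mul_zero, zero_smul]
  have h2 : ∀ i j, T i j = (if i < j then T i j else 0) + (if j < i then T i j else 0) := by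
    intro i j
    rcases lt_trichotomy i j with h | h | h
    · rw [if_pos h, if_neg (not_lt_of_gt h), add_zero]
    · subst h
      rw [if_neg (lt_irrefl i), hdiag, add_zero]
    · rw [if_neg (not_lt_of_gt h), if_pos h, zero_add]
  have h3 : ∑ i : Fin a, ∑ j : Fin a, T i j =
      ∑ i : Fin a, ∑ j : Fin a, (if i < j then T i j else 0) +
      ∑ i : Fin a, ∑ j : Fin a, (if j < i then T i j else 0) := by
    rw [← Finset.sum_add_distrib]
    apply Finset.sum_congr rfl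
    intro i _
    rw [← Finset.sum_add_distrib]
    apply Finset.sum_congr rfl
    intro j _
    exact h2 i j
  have h4 : ∑ i : Fin a, ∑ j : Fin a, (if j < i then T i j else 0) =
      ∑ i : Fin a, ∑ j : Fin a, (if i < j then T j i else 0) := Finset.sum_comm
  rw [h1, h3, h4, ← Finset.sum_add_distrib]
  apply Finset.sum_congr rfl
  intro i _
  rw [← Finset.sum_add_distrib]
  apply Finset.sum_congr rfl
  intro j _
  by_cases hij : i < j
  · rw [if_pos hij, if_pos hij, if_pos hij]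
    have hskew : H i j = - H j i := totvmem7_H_skew C.hf₁ j i
    simp only [hT, totvmem7_el]
    rw [hskew, smul_sub, sub_eq_add_neg, ← neg_smul]
    congr 2
    ring
  · rw [if_neg hij, if_neg hij, if_neg hij, add_zero]

/-- TVMEM, `B`-half: `1 ⊗ τ_w(c) ∈ Ω`. -/
theorem totvmem7_tvB [Fintype F] (C : Ctx a b F) (hab : 7 ≤ a * b) (w : Fin b → F) (c : F) :
    C.tvB w c ∈ Cfsg.Geo.omegaGL C.q := by
  classical
  have h1 : C.tvB w c = EL (∑ i : Fin a, ∑ j : Fin a,
      if i < j then totvmem7_el C (Pi.single j 1) (Pi.single i 1)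
        (c * (Cfsg.Geo.gramMatrix C.f₁)⁻¹ j i) else 0) w (C.fl₂ w) (C.fl₂_self w) := by
    apply Units.ext
    rw [Ctx.tvB, EL_coe, EL_coe, totvmem7_dec2 C c]
  rw [h1]
  apply totvmem7_sum_mem
  intro i _
  apply totvmem7_sum_mem
  intro j _
  by_cases hij : i < j
  · rw [if_pos hij]
    exact totvmem7_el_mem C hab _ _ _ w
  · rw [if_neg hij, totvmem7_EL_zero]
    exact Subgroup.one_mem _

end Cfsg.Agent.Lib.helper7.TO
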