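import Cfsg.Agent.Lib.helper7.TO.Basic
import Cfsg.Agent.Lib.helper7.TP.Main
import Cfsg.Agent.Lib.Helper28.OsP
import Cfsg.Agent.Lib.Helper28.OTens
import Cfsg.Agent.Lib.helper15.SPXSYMPEVEN

/-!
# Project TO (S5704), piece MAIN, part 1 (helper7): transport of the standard model to the frozen
statement.  `s5704_of_std` : the frozen statement, from maximality in every context `C : Ctx n₁ n₂ F`.
-/

set_option autoImplicit false
set_option linter.unusedVariables false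

namespace Cfsg.Agent.Lib.helper7.TO

open Matrix
open scoped Kronecker
open Cfsg.Agent.Lib.helper7.TP

/-- the arithmetic of the dimensions: `n₁, n₂` even, `n₁ < n₂`, `13 ≤ n₁ n₂` give `2 ≤ n₁`, `6 ≤ n₂`. -/
theorem tomain_dims {n n₁ n₂ : ℕ} (hn : 13 ≤ n) (h12 : n₁ < n₂) (hmul : n = n₁ * n₂)
    (h1 : Even n₁) (h2 : Even n₂) : 2 ≤ n₁ ∧ 6 ≤ n₂ := by
  obtain ⟨k₁, hk₁⟩ := h1
  obtain ⟨k₂, hk₂⟩ := h2
  subst hk₁ hk₂ hmul
  have hk₁0 : k₁ ≠ 0 := by
    rintro rfl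
    simp at hn
  have hk₁1 : 1 ≤ k₁ := Nat.one_le_iff_ne_zero.mpr hk₁0
  refine ⟨by omega, ?_⟩
  by_contra hcon
  have hk₂ : k₂ ≤ 2 := by omega
  have hk₁' : k₁ ≤ 1 := by omega
  have : (k₁ + k₁) * (k₂ + k₂) ≤ 2 * 4 := Nat.mul_le_mul (by omega) (by omega)
  omega

/-- the frozen statement S5704 from maximality in the standard model. -/
theorem s5704_of_std {F : Type*} [Field F] [Fintype F] {n : ℕ} (hn : 13 ≤ n)
    (Q : (Fin n → F) → F) (hQ : Cfsg.Geo.IsNondegenerateQuadraticForm Q) (n₁ n₂ : ℕ)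
    (h12 : n₁ < n₂) (hex : ¬ (Fintype.card F = 2 ∧ n₁ = 2)) (e : (Fin n) ≃ Fin n₁ × Fin n₂)
    (P : Matrix.GeneralLinearGroup (Fin n) F) (f₁ : (Fin n₁ → F) → (Fin n₁ → F) → F)
    (f₂ : (Fin n₂ → F) → (Fin n₂ → F) → F) (hf₁ : Cfsg.Geo.IsSymplecticForm f₁)
    (hf₂ : Cfsg.Geo.IsSymplecticForm f₂)
    (hT : Cfsg.Geo.IsTensorFormStructure id (QuadraticMap.polar Q) f₁ f₂ e P)
    (hpure : (∀ (x₁ : Fin n₁ → F) (x₂ : Fin n₂ → F),
      Q (Matrix.mulVec (P : Matrix (Fin n) (Fin n) F)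
        ((fun a : Fin n₁ × Fin n₂ => x₁ a.1 * x₂ a.2) ∘ e)) = 0))
    (hstd : ∀ C : Ctx n₁ n₂ F, 2 ≤ n₁ → n₁ < n₂ → 6 ≤ n₂ → ¬ (n₁ = 2 ∧ Fintype.card F = 2) →
      Cfsg.Geo.IsMaximalIn (Cfsg.Geo.omegaGL C.q) (K0 n₁ n₂ F ⊓ Cfsg.Geo.omegaGL C.q)) :
    Cfsg.Geo.IsMaximalIn (Cfsg.Geo.omegaGL Q)
      (Cfsg.Geo.tensorProductSubgroup n₁ n₂ e P ⊓ Cfsg.Geo.omegaGL Q) := by
  classical
  have hmul : n = n₁ * n₂ := by
    have := Fintype.card_congr e
    rwa [Fintype.card_fin, Fintype.card_prod, Fintype.card_fin, Fintype.card_fin] at this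
  obtain ⟨h2, h6⟩ := tomain_dims hn h12 hmul (Cfsg.Agent.Lib.helper6.SPX.symp_even f₁ hf₁)
    (Cfsg.Agent.Lib.helper6.SPX.symp_even f₂ hf₂)
  obtain ⟨c, hc, hT⟩ := hT
  -- the linear map `x ↦ P (x ∘ e)`
  have hLadd : ∀ x y : Fin n₁ × Fin n₂ → F,
      (P : Matrix (Fin n) (Fin n) F) *ᵥ ((x + y) ∘ e) =
        (P : Matrix (Fin n) (Fin n) F) *ᵥ (x ∘ e) + (P : Matrix (Fin n) (Fin n) F) *ᵥ (y ∘ e) := by
    intro x y
    rw [← Matrix.mulVec_add]
    rfl
  have hLsmul : ∀ (k : F) (x : Fin n₁ × Fin n₂ → F),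
      (P : Matrix (Fin n) (Fin n) F) *ᵥ ((k • x) ∘ e) =
        k • ((P : Matrix (Fin n) (Fin n) F) *ᵥ (x ∘ e)) := by
    intro k x
    rw [← Matrix.mulVec_smul]
    rfl
  have hpb := hQ.polar_bilinear
  let C : Ctx n₁ n₂ F :=
    { f₁ := f₁
      f₂ := f₂
      f := fun x y => c⁻¹ * QuadraticMap.polar Q ((P : Matrix (Fin n) (Fin n) F) *ᵥ (x ∘ e))
        ((P : Matrix (Fin n) (Fin n) F) *ᵥ (y ∘ e))
      q := fun x => c⁻¹ * Q ((P : Matrix (Fin n) (Fin n) F) *ᵥ (x ∘ e))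
      hf₁ := hf₁
      hf₂ := hf₂
      hf :=
        { add_left := fun x y v => by
            show c⁻¹ * _ = c⁻¹ * _ + c⁻¹ * _
            rw [hLadd, hpb.add_left, mul_add]
          smul_left := fun k x v => by
            show c⁻¹ * _ = k * (c⁻¹ * _)
            rw [hLsmul, hpb.smul_left]
            ring
          add_right := fun v x y => by
            show c⁻¹ * _ = c⁻¹ * _ + c⁻¹ * _
            rw [hLadd, hpb.add_right, mul_add]
          smul_right := fun k v x => by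
            show c⁻¹ * _ = k * (c⁻¹ * _)
            rw [hLsmul, hpb.smul_right]
            ring }
      f_ten := fun u w u' w' => by
        show c⁻¹ * _ = _
        rw [hT]
        have h1 := Cfsg.Agent.Lib.Helper28.OTens.pt_form (Cfsg.Geo.gramMatrix f₁)
          (Cfsg.Geo.gramMatrix f₂) u u' w w'
        rw [← Cfsg.Agent.Lib.Helper28.OTens.bil_gram hf₁.bilinear,
          ← Cfsg.Agent.Lib.Helper28.OTens.bil_gram hf₂.bilinear] at h1
        have h2 : Cfsg.Geo.formOfGram id (Cfsg.Geo.gramMatrix f₁ ⊗ₖ Cfsg.Geo.gramMatrix f₂)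
            (ten u w) (ten u' w') = f₁ u u' * f₂ w w' := h1
        rw [h2, ← mul_assoc, inv_mul_cancel₀ hc, one_mul]
      q_smul := fun k x => by
        show c⁻¹ * _ = k * k * (c⁻¹ * _)
        rw [hLsmul, hQ.smul]
        ring
      q_add := fun x y => by
        show c⁻¹ * _ = c⁻¹ * _ + c⁻¹ * _ + c⁻¹ * _
        rw [hLadd, QuadraticMap.polar]
        ring
      q_ten := fun u w => by
        show c⁻¹ * _ = 0
        have := hpure u w
        rw [show ten u w = (fun a : Fin n₁ × Fin n₂ => u a.1 * w a.2) from rfl, this, mul_zero] }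
  have hstd' := hstd C h2 h12 h6 (fun h => hex ⟨h.2, h.1⟩)
  -- transport of `Ω`
  have hmap : (Cfsg.Geo.omegaGL C.q).map (Cfsg.Agent.Lib.Helper28.Transport.tmap e.symm P) =
      Cfsg.Geo.omegaGL Q := by
    unfold Cfsg.Agent.Lib.Helper28.Transport.tmap
    rw [← Subgroup.map_map]
    have h1 := Cfsg.Agent.Lib.Helper28.OTrans.map_omegaGL (F := F) e.symm C.q
    have h1' : (Cfsg.Geo.omegaGL C.q).map (Cfsg.Geo.glReindex e.symm).toMonoidHom =
        Cfsg.Geo.omegaGL (fun x : Fin n → F => C.q (x ∘ e.symm)) := h1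
    rw [h1']
    have h2 : (fun x : Fin n → F => C.q (x ∘ e.symm)) =
        fun x : Fin n → F => c⁻¹ * Q ((P : Matrix (Fin n) (Fin n) F) *ᵥ x) := by
      funext x
      show c⁻¹ * Q ((P : Matrix (Fin n) (Fin n) F) *ᵥ ((x ∘ e.symm) ∘ e)) = _
      have : (x ∘ e.symm) ∘ e = x := by
        funext i
        simp
      rw [this]
    rw [h2]
    exact Cfsg.Agent.Lib.Helper28.Os.map_omega_conj Q P (inv_ne_zero hc)
  have hinj := Cfsg.Agent.Lib.Helper28.Transport.tmap_injective (F := F) e.symm P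
  rw [Cfsg.Agent.Lib.Helper28.Transport.tensor_eq_map]
  apply isMaximalIn_map (Cfsg.Agent.Lib.Helper28.Transport.tmap e.symm P) hinj
    (Cfsg.Geo.kroneckerSubgroup n₁ n₂ F) (Cfsg.Geo.omegaGL C.q) (Cfsg.Geo.omegaGL Q)
  · intro g
    rw [← hmap]
    exact (Subgroup.mem_map_iff_mem hinj).symm
  · intro x _
    refine ⟨(Cfsg.Geo.glReindex e.symm).symm ((MulAut.conj P).symm x), ?_⟩
    change (MulAut.conj P) ((Cfsg.Geo.glReindex e.symm) ((Cfsg.Geo.glReindex e.symm).symm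
      ((MulAut.conj P).symm x))) = x
    rw [MulEquiv.apply_symm_apply, MulEquiv.apply_symm_apply]
  · exact hstd'

end Cfsg.Agent.Lib.helper7.TO
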